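import Mathlib

/-!
Sylow 2-subgroups of `GL` in odd characteristic: the doubling step for normalizers of odd order.
-/

set_option autoImplicit false

namespace Cfsg.Agent.Lib.PronormalOddIndex

open Matrix

variable {F : Type} [Field F] {κ η : Type} [Fintype κ] [DecidableEq κ] [Fintype η] [DecidableEq η]

/-- Scalar elements of `GL`. -/
def IsScal (g : GL κ F) : Prop := ∃ c : F, (g : Matrix κ κ F) = c • 1

theorem IsScal.comm {g : GL κ F} (hg : IsScal g) (h : GL κ F) : g * h = h * g := by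
  obtain ⟨c, hc⟩ := hg
  refine Units.ext ?_
  rw [Units.val_mul, Units.val_mul, hc]
  simp

/-- The elements of determinant one in `T`. -/
def detOne (T : Subgroup (GL κ F)) : Subgroup (GL κ F) :=
  T ⊓ (GeneralLinearGroup.det : GL κ F →* Fˣ).ker

theorem mem_detOne {T : Subgroup (GL κ F)} {g : GL κ F} :
    g ∈ detOne T ↔ g ∈ T ∧ GeneralLinearGroup.det g = 1 := by
  rw [detOne, Subgroup.mem_inf, MonoidHom.mem_ker]

/-- The properties carried along the doubling induction. -/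
structure Good (T : Subgroup (GL κ F)) : Prop where
  pgroup : IsPGroup 2 T
  odd_scal : ∀ g ∈ Subgroup.normalizer (T : Set (GL κ F)), Odd (orderOf g) → IsScal g
  commutant : ∀ g : GL κ F, (∀ t ∈ detOne T, g * t = t * g) → IsScal g
  noninv : ∃ t ∈ detOne T, t * t ≠ 1
  neg_one : (-1 : GL κ F) ∈ T

/-- Block diagonal elements. -/
def dg : GL κ F × GL κ F →* GL (κ ⊕ κ) F where
  toFun p :=
    { val := fromBlocks p.1.val 0 0 p.2.val
      inv := fromBlocks p.1⁻¹.val 0 0 p.2⁻¹.val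
      val_inv := by simp [fromBlocks_multiply]
      inv_val := by simp [fromBlocks_multiply] }
  map_one' := Units.ext fromBlocks_one
  map_mul' p q := Units.ext (by simp [fromBlocks_multiply])

theorem dg_val (p : GL κ F × GL κ F) :
    (dg p : Matrix (κ ⊕ κ) (κ ⊕ κ) F) = fromBlocks p.1.val 0 0 p.2.val := rfl

theorem dg_injective : Function.Injective (dg (F := F) (κ := κ)) := by
  intro p q h
  have h' := congrArg Units.val h
  rw [dg_val, dg_val] at h'
  obtain ⟨h1, -, -, h4⟩ := fromBlocks_inj.1 h'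
  exact Prod.ext (Units.ext h1) (Units.ext h4)

theorem det_dg (a b : GL κ F) :
    GeneralLinearGroup.det (dg (a, b)) =
      GeneralLinearGroup.det a * GeneralLinearGroup.det b := by
  refine Units.ext ?_
  simp only [GeneralLinearGroup.val_det_apply, Units.val_mul, dg_val]
  exact det_fromBlocks_zero₁₂ _ _ _

/-- The swap of the two blocks. -/
def sw : GL (κ ⊕ κ) F where
  val := fromBlocks 0 1 1 0
  inv := fromBlocks 0 1 1 0
  val_inv := by simp [fromBlocks_multiply, fromBlocks_one]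
  inv_val := by simp [fromBlocks_multiply, fromBlocks_one]

theorem sw_mul_sw : (sw : GL (κ ⊕ κ) F) * sw = 1 :=
  Units.ext (by simp [sw, fromBlocks_multiply, fromBlocks_one])

theorem sw_inv : (sw : GL (κ ⊕ κ) F)⁻¹ = sw := inv_eq_of_mul_eq_one_right sw_mul_sw

theorem sw_dg (a b : GL κ F) : sw * dg (a, b) = dg (b, a) * sw :=
  Units.ext (by simp [sw, dg, fromBlocks_multiply])

theorem dg_ne_dg_sw [Nonempty κ] (a b c d : GL κ F) : dg (a, b) ≠ dg (c, d) * sw := by
  intro h
  have h' := congrArg Units.val h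
  simp [sw, dg, fromBlocks_multiply] at h'

theorem det_sw (hev : Even (Fintype.card κ)) :
    GeneralLinearGroup.det (sw : GL (κ ⊕ κ) F) = 1 := by
  refine Units.ext ?_
  rw [GeneralLinearGroup.val_det_apply]
  show (fromBlocks 0 1 1 0 : Matrix (κ ⊕ κ) (κ ⊕ κ) F).det = 1
  have e : (fromBlocks 0 1 1 0 : Matrix (κ ⊕ κ) (κ ⊕ κ) F) =
      fromBlocks 1 0 0 (-1) * (fromBlocks 1 1 0 1 * fromBlocks 1 0 (-1) 1 * fromBlocks 1 1 0 1) := by
    simp [fromBlocks_multiply]
  rw [e]
  simp [det_fromBlocks_zero₁₂, det_fromBlocks_zero₂₁, det_neg, hev.neg_one_pow]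

/-- `diag(1, -1)`. -/
def zz : GL (κ ⊕ κ) F := dg ((1 : GL κ F), (-1 : GL κ F))

theorem det_neg_one (hev : Even (Fintype.card κ)) :
    GeneralLinearGroup.det (-1 : GL κ F) = 1 := by
  refine Units.ext ?_
  simp [GeneralLinearGroup.val_det_apply, det_neg, hev.neg_one_pow]

theorem exists_dg_of_commute_zz (h2 : (2 : F) ≠ 0) {g : GL (κ ⊕ κ) F} (h : g * zz = zz * g) :
    ∃ a b, g = dg (a, b) := by
  have hz : ∀ x : F, -x = x → x = 0 := fun x hx =>
    (mul_eq_zero.1 (show (2 : F) * x = 0 by linear_combination -hx)).resolve_left h2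
  have key : ∀ g : GL (κ ⊕ κ) F, g * zz = zz * g →
      (g : Matrix (κ ⊕ κ) (κ ⊕ κ) F).toBlocks₁₂ = 0 ∧ (g : Matrix (κ ⊕ κ) (κ ⊕ κ) F).toBlocks₂₁ = 0 := by
    intro g h
    have h' := congrArg Units.val h
    rw [Units.val_mul, Units.val_mul] at h'
    rw [← fromBlocks_toBlocks g.val] at h'
    simp only [zz, dg_val, Units.val_one, Units.val_neg, fromBlocks_multiply] at h'
    obtain ⟨-, hB, hC, -⟩ := fromBlocks_inj.1 h'
    simp at hB hC
    constructor
    · ext i j; exact hz _ (congrFun (congrFun hB i) j)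
    · ext i j; exact hz _ (congrFun (congrFun hC i) j).symm
  have hi : g⁻¹ * zz = zz * g⁻¹ := (Commute.inv_left (show Commute g zz from h)).eq
  obtain ⟨g12, g21⟩ := key g h
  obtain ⟨i12, i21⟩ := key g⁻¹ hi
  have e1 := g.val_inv
  have e2 := g.inv_val
  rw [← fromBlocks_toBlocks g.val,
    show (g.inv : Matrix (κ ⊕ κ) (κ ⊕ κ) F) = fromBlocks (g⁻¹).val.toBlocks₁₁ (g⁻¹).val.toBlocks₁₂
      (g⁻¹).val.toBlocks₂₁ (g⁻¹).val.toBlocks₂₂ from (fromBlocks_toBlocks (g⁻¹).val).symm,
    fromBlocks_multiply, g12, g21, i12, i21, ← fromBlocks_one] at e1 e2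
  simp only [Matrix.mul_zero, Matrix.zero_mul, add_zero, zero_add] at e1 e2
  obtain ⟨a1, -, -, b1⟩ := fromBlocks_inj.1 e1
  obtain ⟨a2, -, -, b2⟩ := fromBlocks_inj.1 e2
  refine ⟨⟨_, _, a1, a2⟩, ⟨_, _, b1, b2⟩, Units.ext ?_⟩
  rw [dg_val]
  conv_lhs => rw [← fromBlocks_toBlocks g.val, g12, g21]

/-- The doubled subgroup. -/
def double (T : Subgroup (GL κ F)) : Subgroup (GL (κ ⊕ κ) F) where
  carrier := {g | ∃ a ∈ T, ∃ b ∈ T, g = dg (a, b) ∨ g = dg (a, b) * sw}
  one_mem' := ⟨1, T.one_mem, 1, T.one_mem, Or.inl (map_one dg).symm⟩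
  mul_mem' := by
    rintro _ _ ⟨a, ha, b, hb, rfl | rfl⟩ ⟨c, hc, d, hd, rfl | rfl⟩
    · exact ⟨a * c, mul_mem ha hc, b * d, mul_mem hb hd, Or.inl (by rw [← map_mul]; rfl)⟩
    · exact ⟨a * c, mul_mem ha hc, b * d, mul_mem hb hd, Or.inr (by rw [← mul_assoc, ← map_mul]; rfl)⟩
    · exact ⟨a * d, mul_mem ha hd, b * c, mul_mem hb hc, Or.inr (by
        rw [mul_assoc, sw_dg, ← mul_assoc, ← map_mul]; rfl)⟩
    · exact ⟨a * d, mul_mem ha hd, b * c, mul_mem hb hc, Or.inl (by
        rw [mul_assoc, ← mul_assoc sw, sw_dg, mul_assoc (dg (d, c)), sw_mul_sw, mul_one, ← map_mul]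
        rfl)⟩
  inv_mem' := by
    rintro _ ⟨a, ha, b, hb, rfl | rfl⟩
    · exact ⟨a⁻¹, inv_mem ha, b⁻¹, inv_mem hb, Or.inl (by rw [← map_inv]; rfl)⟩
    · exact ⟨b⁻¹, inv_mem hb, a⁻¹, inv_mem ha, Or.inr (by
        rw [_root_.mul_inv_rev, sw_inv, ← map_inv, show (a, b)⁻¹ = (a⁻¹, b⁻¹) from rfl, sw_dg])⟩

theorem dg_mem_double {T : Subgroup (GL κ F)} {a b : GL κ F} (ha : a ∈ T) (hb : b ∈ T) :
    dg (a, b) ∈ double T := ⟨a, ha, b, hb, Or.inl rfl⟩

theorem sw_mem_double (T : Subgroup (GL κ F)) : sw ∈ double T :=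
  ⟨1, T.one_mem, 1, T.one_mem, Or.inr (by rw [show ((1 : GL κ F), (1 : GL κ F)) = 1 from rfl, map_one, one_mul])⟩

theorem mem_of_dg_mem_double [Nonempty κ] {T : Subgroup (GL κ F)} {a b : GL κ F}
    (h : dg (a, b) ∈ double T) : a ∈ T ∧ b ∈ T := by
  obtain ⟨c, hc, d, hd, e | e⟩ := h
  · obtain ⟨rfl, rfl⟩ := Prod.mk.injEq .. ▸ dg_injective e
    exact ⟨hc, hd⟩
  · exact absurd e (dg_ne_dg_sw _ _ _ _)

theorem card_double [Nonempty κ] [Finite F] (T : Subgroup (GL κ F)) :
    Nat.card (double T) = Nat.card T * Nat.card T * 2 := by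
  let f : (T × T) × Bool → double T := fun p =>
    bif p.2 then ⟨dg (p.1.1.1, p.1.2.1) * sw,
        mul_mem (dg_mem_double p.1.1.2 p.1.2.2) (sw_mem_double T)⟩
      else ⟨dg (p.1.1.1, p.1.2.1), dg_mem_double p.1.1.2 p.1.2.2⟩
  have hf : Function.Bijective f := by
    constructor
    · rintro ⟨⟨⟨a, ha⟩, ⟨b, hb⟩⟩, _ | _⟩ ⟨⟨⟨c, hc⟩, ⟨d, hd⟩⟩, _ | _⟩ h <;>
        replace h := congrArg Subtype.val h
      · obtain ⟨rfl, rfl⟩ := Prod.mk.injEq .. ▸ dg_injective h; rfl
      · exact absurd h (dg_ne_dg_sw a b c d)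
      · exact absurd h.symm (dg_ne_dg_sw c d a b)
      · obtain ⟨rfl, rfl⟩ := Prod.mk.injEq .. ▸ dg_injective (mul_right_cancel h); rfl
    · rintro ⟨g, a, ha, b, hb, rfl | rfl⟩
      · exact ⟨((⟨a, ha⟩, ⟨b, hb⟩), false), rfl⟩
      · exact ⟨((⟨a, ha⟩, ⟨b, hb⟩), true), rfl⟩
  rw [← Nat.card_eq_of_bijective f hf, Nat.card_prod, Nat.card_prod]
  simp

theorem eq_one_of_pow_two_odd {G : Type*} [Monoid G] {g : G} {k N : ℕ} (h : g ^ 2 ^ k = 1)
    (hN : g ^ N = 1) (ho : Odd N) : g = 1 := by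
  have h1 : orderOf g ∣ Nat.gcd (2 ^ k) N :=
    Nat.dvd_gcd (orderOf_dvd_of_pow_eq_one h) (orderOf_dvd_of_pow_eq_one hN)
  rw [Nat.Coprime.pow_left k (Nat.coprime_two_left.2 ho), Nat.dvd_one,
    orderOf_eq_one_iff] at h1
  exact h1

variable [Finite F]

theorem commute_conj_iff {G : Type*} [Group G] (x s y : G) :
    Commute s (x * y * x⁻¹) ↔ Commute (x⁻¹ * s * x) y := by
  constructor
  · intro h
    have := h.map (MulAut.conj x⁻¹)
    simpa [mul_assoc] using this
  · intro h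
    have := h.map (MulAut.conj x)
    simpa [mul_assoc] using this

theorem mem_normalizer_of_forall {G : Type*} [Group G] [Finite G] {H : Subgroup G} {g : G}
    (h : ∀ x ∈ H, g * x * g⁻¹ ∈ H) : g ∈ Subgroup.normalizer (H : Set G) := by
  rw [Subgroup.mem_normalizer_iff_map_conj_eq]
  refine Subgroup.eq_of_le_of_card_ge ?_ (le_of_eq
    (Subgroup.card_map_of_injective (f := (MulAut.conj g).toMonoidHom) (MulAut.conj g).injective).symm)
  rintro _ ⟨x, hx, rfl⟩
  exact h x hx

theorem detOne_normal {T : Subgroup (GL η F)} {g : GL η F}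
    (hg : g ∈ Subgroup.normalizer (T : Set (GL η F))) :
    g ∈ Subgroup.normalizer (detOne T : Set (GL η F)) := by
  refine mem_normalizer_of_forall fun x hx => ?_
  rw [mem_detOne] at hx ⊢
  refine ⟨(Subgroup.mem_normalizer_iff.1 hg x).1 hx.1, ?_⟩
  simp [map_mul, hx.2]

section Doubling

variable {T : Subgroup (GL κ F)} (hT : Good T) (h2 : (2 : F) ≠ 0) (hev : Even (Fintype.card κ))
include hT h2 hev

theorem zz_mem : zz ∈ detOne (double T) :=
  mem_detOne.2 ⟨dg_mem_double T.one_mem hT.neg_one, by rw [zz, det_dg, det_neg_one hev]; simp⟩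

theorem sw_mem : sw ∈ detOne (double T) := mem_detOne.2 ⟨sw_mem_double T, det_sw hev⟩

theorem left_mem {t : GL κ F} (ht : t ∈ detOne T) : dg (t, 1) ∈ detOne (double T) :=
  mem_detOne.2 ⟨dg_mem_double (mem_detOne.1 ht).1 T.one_mem, by
    rw [det_dg, (mem_detOne.1 ht).2, map_one, one_mul]⟩

theorem pair_mem {a : GL κ F} (ha : a ∈ T) : dg (a, a⁻¹) ∈ detOne (double T) :=
  mem_detOne.2 ⟨dg_mem_double ha (inv_mem ha), by rw [det_dg, map_inv, mul_inv_cancel]⟩

/-- Two elements not commuting with `x` multiply to one that does. -/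
def Half (x : GL (κ ⊕ κ) F) : Prop :=
  ∀ s ∈ detOne (double T), ∀ s' ∈ detOne (double T),
    ¬ Commute s x → ¬ Commute s' x → Commute (s * s') x

theorem half_zz [Nonempty κ] : Half (T := T) zz := by
  have hd : ∀ a b : GL κ F, Commute (dg (a, b)) zz := fun a b => by
    rw [Commute, SemiconjBy, zz, ← map_mul, ← map_mul]
    refine congrArg dg (Prod.ext ?_ ?_) <;> simp
  intro s hs s' hs' h h'
  obtain ⟨a, -, b, -, rfl | rfl⟩ := (mem_detOne.1 hs).1
  · exact absurd (hd a b) h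
  obtain ⟨c, -, d, -, rfl | rfl⟩ := (mem_detOne.1 hs').1
  · exact absurd (hd c d) h'
  rw [mul_assoc, ← mul_assoc sw, sw_dg, mul_assoc (dg (d, c)), sw_mul_sw, mul_one, ← map_mul]
  exact hd _ _

theorem scal_fst [Nonempty κ] {a b : GL κ F} (hx : Half (T := T) (dg (a, b))) : IsScal a := by
  classical
  have hcomm : ∀ u v : GL κ F, Commute (dg (u, v)) (dg (a, b)) ↔ Commute u a ∧ Commute v b := by
    intro u v
    rw [Commute, SemiconjBy, ← map_mul, ← map_mul, dg_injective.eq_iff, Prod.ext_iff]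
    rfl
  by_cases hall : ∀ t ∈ detOne T, Commute (dg (t, 1)) (dg (a, b))
  · exact hT.commutant a fun t ht => ((hcomm _ _).1 (hall t ht)).1.eq.symm
  push Not at hall
  obtain ⟨t, ht, htn⟩ := hall
  set W := dg (t, (1 : GL κ F))
  set U := dg ((1 : GL κ F), t)
  have hUW : U * sw = sw * W := (sw_dg t 1).symm
  have hW := left_mem hT h2 hev ht
  have hS := sw_mem hT h2 hev
  have hUmem : U ∈ detOne (double T) := by
    have := mul_mem (mul_mem hS hW) hS
    rwa [← hUW, mul_assoc, sw_mul_sw, mul_one] at this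
  have hU : ¬ Commute U (dg (a, b)) := by
    intro hu
    by_cases hs : Commute sw (dg (a, b))
    · apply htn
      have : Commute (sw * (U * sw)) (dg (a, b)) := hs.mul_left (hu.mul_left hs)
      rwa [hUW, ← mul_assoc, sw_mul_sw, one_mul] at this
    · have h1 := hx _ hS _ hW hs htn
      rw [← hUW] at h1
      apply hs
      have := hu.inv_left.mul_left h1
      rwa [inv_mul_cancel_left] at this
  refine hT.commutant a fun u hu => ?_
  have hp := pair_mem hT h2 hev (mem_detOne.1 hu).1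
  by_cases hc : Commute (dg (u, u⁻¹)) (dg (a, b))
  · exact ((hcomm _ _).1 hc).1.eq.symm
  · have := hx _ hp _ hUmem hc hU
    rw [← map_mul, show (u, u⁻¹) * ((1 : GL κ F), t) = (u * 1, u⁻¹ * t) from rfl, mul_one] at this
    exact ((hcomm _ _).1 this).1.eq.symm

theorem scal_blocks [Nonempty κ] {x : GL (κ ⊕ κ) F} (hx : x ∈ detOne (double T))
    (hh : Half (T := T) x) : ∃ a b, x = dg (a, b) ∧ IsScal a ∧ IsScal b := by
  obtain ⟨a, -, b, -, rfl | rfl⟩ := (mem_detOne.1 hx).1
  · refine ⟨a, b, rfl, scal_fst hT h2 hev hh, scal_fst hT h2 hev (b := a) ?_⟩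
    have hS := sw_mem hT h2 hev
    have key : ∀ s, Commute s (dg (b, a)) ↔ Commute (sw * s * sw) (dg (a, b)) := by
      intro s
      have e : dg (b, a) = sw * dg (a, b) * sw⁻¹ := by
        rw [sw_dg, mul_inv_cancel_right]
      rw [e, commute_conj_iff, sw_inv]
    intro s hs s' hs' h h'
    rw [key] at h h' ⊢
    have := hh _ (mul_mem (mul_mem hS hs) hS) _ (mul_mem (mul_mem hS hs') hS) h h'
    rwa [show sw * (s * s') * sw = (sw * s * sw) * (sw * s' * sw) by
      simp only [mul_assoc]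
      rw [← mul_assoc sw sw, sw_mul_sw, one_mul]]
  · exfalso
    obtain ⟨t, ht, ht2⟩ := hT.noninv
    have hW := left_mem hT h2 hev ht
    have hcW : Commute (dg (t, (1 : GL κ F)) * dg (t, 1)) (dg (a, b) * sw) := by
      by_cases hc : Commute (dg (t, (1 : GL κ F))) (dg (a, b) * sw)
      · exact hc.mul_left hc
      · exact hh _ hW _ hW hc hc
    rw [← map_mul, Prod.mk_mul_mk, mul_one] at hcW
    have e := hcW.eq
    rw [← mul_assoc, ← map_mul, mul_assoc (dg (a, b)), sw_dg, ← mul_assoc, ← map_mul] at e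
    have e2 := (Prod.ext_iff.1 (dg_injective (mul_right_cancel e))).1
    simp only [Prod.fst_mul, Prod.snd_mul, mul_one] at e2
    exact ht2 (mul_eq_right.1 e2)

theorem isScal_dg {a : GL κ F} (ha : IsScal a) : IsScal (dg (a, a)) := by
  obtain ⟨c, hc⟩ := ha
  exact ⟨c, by rw [dg_val, hc, ← fromBlocks_one, fromBlocks_smul, smul_zero]⟩

theorem commutant_double [Nonempty κ] (g : GL (κ ⊕ κ) F)
    (h : ∀ t ∈ detOne (double T), g * t = t * g) : IsScal g := by
  obtain ⟨a, b, rfl⟩ := exists_dg_of_commute_zz h2 (h _ (zz_mem hT h2 hev))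
  have e := h _ (sw_mem hT h2 hev)
  rw [sw_dg] at e
  obtain ⟨rfl, -⟩ := Prod.mk.injEq .. ▸ dg_injective (mul_right_cancel e)
  refine isScal_dg hT h2 hev (hT.commutant a fun t ht => ?_)
  have e1 := h _ (left_mem hT h2 hev ht)
  rw [← map_mul, ← map_mul] at e1
  exact (Prod.ext_iff.1 (dg_injective e1)).1

/-- The key step: odd order elements normalizing the determinant-one part are scalar. -/
theorem odd_scal_detOne [Nonempty κ] (g : GL (κ ⊕ κ) F)
    (hg : g ∈ Subgroup.normalizer (detOne (double T) : Set (GL (κ ⊕ κ) F)))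
    (ho : Odd (orderOf g)) : IsScal g := by
  have hz := zz_mem hT h2 hev
  have hmem : ∀ s, s ∈ detOne (double T) ↔ g * s * g⁻¹ ∈ detOne (double T) :=
    Subgroup.mem_normalizer_iff.1 hg
  have hh : Half (T := T) (g * zz * g⁻¹) := by
    have key : ∀ s, Commute s (g * zz * g⁻¹) ↔ Commute (g⁻¹ * s * g) zz := by
      intro s
      exact commute_conj_iff g s zz
    intro s hs s' hs' h h'
    rw [key] at h h' ⊢
    have m1 : g⁻¹ * s * g ∈ detOne (double T) := (hmem _).2 (by simpa [mul_assoc] using hs)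
    have m2 : g⁻¹ * s' * g ∈ detOne (double T) := (hmem _).2 (by simpa [mul_assoc] using hs')
    have := half_zz hT h2 hev _ m1 _ m2 h h'
    simpa [mul_assoc] using this
  obtain ⟨a, b, hab, ⟨c, hc⟩, ⟨d, hd⟩⟩ := scal_blocks hT h2 hev ((hmem _).1 hz) hh
  have hsq : dg (a, b) * dg (a, b) = 1 := by
    rw [← hab]
    calc g * zz * g⁻¹ * (g * zz * g⁻¹) = g * (zz * zz) * g⁻¹ := by group
      _ = 1 := by rw [zz, ← map_mul, show ((1 : GL κ F), (-1 : GL κ F)) * ((1 : GL κ F), (-1 : GL κ F)) = 1 from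
            Prod.ext (one_mul 1) (neg_mul_neg 1 1 |>.trans (one_mul 1)), map_one, mul_one, mul_inv_cancel]
  rw [← map_mul, ← map_one dg] at hsq
  obtain ⟨sa, sb⟩ := Prod.ext_iff.1 (dg_injective hsq)
  have hpm : ∀ (a : GL κ F) (c : F), (a : Matrix κ κ F) = c • 1 → a * a = 1 → a = 1 ∨ a = -1 := by
    intro a c hc h
    have h' := congrArg Units.val h
    rw [Units.val_mul, hc, smul_mul_smul_comm, mul_one, Units.val_one] at h'
    obtain ⟨i⟩ := ‹Nonempty κ›
    have h'' := congrFun (congrFun h' i) i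
    rcases mul_self_eq_one_iff.1 (show c * c = 1 by simpa using h'') with h3 | h3
    · exact Or.inl (Units.ext (by simp [hc, h3]))
    · exact Or.inr (Units.ext (by simp [hc, h3]))
  have hcz : Commute (g * g) zz := by
    have conv : g * zz * g⁻¹ = zz ∨ g * zz * g⁻¹ = dg ((-1 : GL κ F), (1 : GL κ F)) := by
      rw [hab]
      rcases hpm a c hc sa with rfl | rfl <;> rcases hpm b d hd sb with rfl | rfl
      · exfalso
        rw [show ((1 : GL κ F), (1 : GL κ F)) = 1 from rfl, map_one] at hab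
        have e : zz = (dg 1 : GL (κ ⊕ κ) F) := by
          rw [map_one]
          exact conj_eq_one_iff.1 hab
        have := congrArg Units.val (Prod.ext_iff.1 (dg_injective (show dg ((1 : GL κ F), (-1 : GL κ F)) = _ from e))).2
        obtain ⟨i⟩ := ‹Nonempty κ›
        have := congrFun (congrFun this i) i
        simp at this
        exact h2 (by linear_combination -this)
      · exact Or.inl rfl
      · exact Or.inr rfl
      · exfalso
        rw [show ((-1 : GL κ F), (-1 : GL κ F)) = ((-1 : GL κ F), (-1 : GL κ F)) from rfl] at hab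
        have hc : ∀ u, u * dg ((-1 : GL κ F), (-1 : GL κ F)) = dg ((-1 : GL κ F), (-1 : GL κ F)) * u := fun u =>
          ((isScal_dg hT h2 hev (a := (-1 : GL κ F)) ⟨-1, by simp⟩).comm u).symm
        have e : zz = dg ((-1 : GL κ F), (-1 : GL κ F)) := by
          rw [mul_inv_eq_iff_eq_mul, ← hc] at hab
          exact mul_left_cancel hab
        have := congrArg Units.val (Prod.ext_iff.1 (dg_injective (show dg ((1 : GL κ F), (-1 : GL κ F)) = _ from e))).1
        obtain ⟨i⟩ := ‹Nonempty κ›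
        have := congrFun (congrFun this i) i
        simp at this
        exact h2 (by linear_combination this)
    rcases conv with e | e
    · have : Commute g zz := mul_inv_eq_iff_eq_mul.1 e
      exact this.mul_left this
    · have hzn : dg ((-1 : GL κ F), 1) = dg ((-1 : GL κ F), (-1 : GL κ F)) * zz := by
        rw [zz, ← map_mul]
        exact congrArg dg (Prod.ext (by simp) (by simp))
      have hc : ∀ u, u * dg ((-1 : GL κ F), (-1 : GL κ F)) = dg ((-1 : GL κ F), (-1 : GL κ F)) * u := fun u =>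
        ((isScal_dg hT h2 hev (a := (-1 : GL κ F)) ⟨-1, by simp⟩).comm u).symm
      have hn : dg ((-1 : GL κ F), (-1 : GL κ F)) * dg ((-1 : GL κ F), (-1 : GL κ F)) = 1 := by
        rw [← map_mul, show ((-1 : GL κ F), (-1 : GL κ F)) * ((-1 : GL κ F), (-1 : GL κ F)) = 1 from
          Prod.ext (by simp) (by simp), map_one]
      rw [mul_inv_eq_iff_eq_mul, hzn] at e
      calc g * g * zz = g * (dg ((-1 : GL κ F), (-1 : GL κ F)) * zz * g) := by rw [mul_assoc, e]
        _ = dg ((-1 : GL κ F), (-1 : GL κ F)) * (g * zz) * g := by rw [← mul_assoc g, ← mul_assoc g, hc g]; group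
        _ = zz * (g * g) := by rw [e, ← mul_assoc (dg _), ← mul_assoc (dg _), hn, one_mul, mul_assoc]
  obtain ⟨m, hm⟩ := ho
  have hgz : g * zz = zz * g := by
    have e : g = (g * g) ^ (m + 1) := by
      rw [← sq, ← pow_mul, show 2 * (m + 1) = orderOf g + 1 by omega, pow_add, pow_orderOf_eq_one,
        one_mul, pow_one]
    rw [e]; exact hcz.pow_left _
  obtain ⟨u, v, rfl⟩ := exists_dg_of_commute_zz h2 hgz
  have hord := pow_orderOf_eq_one (dg (u, v))
  rw [← map_pow, ← map_one dg] at hord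
  obtain ⟨hu, hv⟩ := Prod.ext_iff.1 (dg_injective hord)
  simp only [Prod.pow_fst, Prod.pow_snd, Prod.fst_one, Prod.snd_one] at hu hv
  have hN : Odd (orderOf (dg (u, v))) := ⟨m, hm⟩
  have hnorm : ∀ t ∈ T, u * t * u⁻¹ ∈ T ∧ v * t⁻¹ * v⁻¹ ∈ T := by
    intro t ht
    have := (mem_detOne.1 ((hmem _).1 (pair_mem hT h2 hev ht))).1
    rw [← map_inv, ← map_mul, ← map_mul] at this
    exact mem_of_dg_mem_double this
  have su : IsScal u := hT.odd_scal u (mem_normalizer_of_forall fun t ht => (hnorm t ht).1)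
    (hN.of_dvd_nat (orderOf_dvd_of_pow_eq_one hu))
  have sv : IsScal v := hT.odd_scal v (mem_normalizer_of_forall fun t ht => by
      simpa using (hnorm t⁻¹ (inv_mem ht)).2)
    (hN.of_dvd_nat (orderOf_dvd_of_pow_eq_one hv))
  have hsw := (mem_detOne.1 ((hmem _).1 (sw_mem hT h2 hev))).1
  rw [← map_inv, mul_assoc, show (u, v)⁻¹ = (u⁻¹, v⁻¹) from rfl, sw_dg, ← mul_assoc, ← map_mul] at hsw
  have h3 : u * v⁻¹ ∈ T := by
    have := mul_mem hsw (sw_mem_double T)
    rw [mul_assoc, sw_mul_sw, mul_one] at this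
    exact (mem_of_dg_mem_double (T := T) this).1
  obtain ⟨k, hk⟩ := hT.pgroup ⟨_, h3⟩
  have hcu : Commute u v⁻¹ := su.comm v⁻¹
  have h4 : u * v⁻¹ = 1 := eq_one_of_pow_two_odd (congrArg Subtype.val hk)
    (by rw [hcu.mul_pow, hu, inv_pow, hv, inv_one, mul_one]) hN
  rw [mul_inv_eq_one] at h4
  subst h4
  exact isScal_dg hT h2 hev su

theorem good_double [Nonempty κ] : Good (double T) where
  pgroup := by
    haveI : Fact (Nat.Prime 2) := ⟨Nat.prime_two⟩
    obtain ⟨k, hk⟩ := IsPGroup.iff_card.1 hT.pgroup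
    exact IsPGroup.of_card (n := k + k + 1) (by rw [card_double, hk, pow_succ, pow_add])
  odd_scal g hg ho := odd_scal_detOne hT h2 hev g (detOne_normal hg) ho
  commutant := commutant_double hT h2 hev
  noninv := by
    obtain ⟨t, ht, ht2⟩ := hT.noninv
    refine ⟨_, left_mem hT h2 hev ht, fun h => ht2 ?_⟩
    rw [← map_mul, ← map_one dg] at h
    exact (Prod.ext_iff.1 (dg_injective h)).1
  neg_one := by
    refine ⟨-1, hT.neg_one, -1, hT.neg_one, Or.inl (Units.ext ?_)⟩
    rw [dg_val, Units.val_neg, Units.val_one, ← fromBlocks_one, fromBlocks_neg]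
    simp

end Doubling

end Cfsg.Agent.Lib.PronormalOddIndex
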