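import Mathlib
import Cfsg.Agent.Lib.PronormalOddIndex.Step
import Cfsg.Agent.Lib.ConjFunctor.Basic
import Cfsg.Agent.Lib.ClassicalSylowTwo.Linear
import Cfsg.Agent.Lib.SL2.SylowTwo

/-!
Sylow 2-subgroups of `GL_{2^k}` in odd characteristic are self-normalizing up to scalars.
-/

set_option autoImplicit false

namespace Cfsg.Agent.Lib.PronormalOddIndex

open Matrix Cfsg.Agent.Lib.ConjFunctor

variable {F : Type} [Field F] [Fintype F]

section General

variable {κ η : Type} [Fintype κ] [DecidableEq κ] [Fintype η] [DecidableEq η]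

theorem two_le_sylow_of_normal {G : Type*} [Group G] [Finite G] {p : ℕ} [Fact p.Prime]
    (P : Sylow p G) {N : Subgroup G} [N.Normal] (hN : IsPGroup p N) : N ≤ (P : Subgroup G) := by
  have h := hN.to_sup_of_normal_left P.2
  exact le_sup_left.trans (le_of_eq (P.3 h le_sup_right))

theorem neg_one_mem_sylow (T : Sylow 2 (GL κ F)) : (-1 : GL κ F) ∈ (T : Subgroup (GL κ F)) := by
  haveI : Fact (Nat.Prime 2) := ⟨Nat.prime_two⟩
  have hc : (-1 : GL κ F) ∈ Subgroup.center (GL κ F) :=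
    Subgroup.mem_center_iff.2 fun g => by simp
  have : (Subgroup.zpowers (-1 : GL κ F)).Normal := by
    refine ⟨fun n hn g => ?_⟩
    have hz : n ∈ Subgroup.center (GL κ F) := Subgroup.zpowers_le.2 hc hn
    rwa [Subgroup.mem_center_iff.1 hz g, mul_inv_cancel_right]
  have hp : IsPGroup 2 (Subgroup.zpowers (-1 : GL κ F)) := by
    obtain ⟨j, -, hj⟩ := (Nat.dvd_prime_pow Nat.prime_two (m := 1)).1
      (orderOf_dvd_of_pow_eq_one (show (-1 : GL κ F) ^ 2 ^ 1 = 1 by simp))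
    exact IsPGroup.of_card (n := j) (by rw [Nat.card_zpowers, hj])
  exact two_le_sylow_of_normal T hp (Subgroup.mem_zpowers _)

/-- Reindexing `GL`. -/
noncomputable def glReindex (e : κ ≃ η) : GL κ F ≃* GL η F :=
  Units.mapEquiv (Matrix.reindexAlgEquiv F F e).toMulEquiv

theorem glReindex_val (e : κ ≃ η) (g : GL κ F) :
    (glReindex e g : Matrix η η F) = Matrix.reindexAlgEquiv F F e g.val := rfl

theorem det_glReindex (e : κ ≃ η) (g : GL κ F) :
    GeneralLinearGroup.det (glReindex e g) = GeneralLinearGroup.det g := by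
  refine Units.ext ?_
  rw [GeneralLinearGroup.val_det_apply, GeneralLinearGroup.val_det_apply, glReindex_val,
    Matrix.det_reindexAlgEquiv]

theorem isScal_glReindex (e : κ ≃ η) {g : GL κ F} (h : IsScal g) : IsScal (glReindex e g) := by
  obtain ⟨c, hc⟩ := h
  exact ⟨c, by rw [glReindex_val, hc, map_smul, map_one]⟩

theorem Good.map (e : κ ≃ η) {T : Subgroup (GL κ F)} (h : Good T) :
    Good (T.map (glReindex e).toMonoidHom) where
  pgroup := h.pgroup.map _
  odd_scal g hg ho := by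
    obtain ⟨g, rfl⟩ := (glReindex e).surjective g
    refine isScal_glReindex e (h.odd_scal g (mem_normalizer_of_forall fun t ht => ?_) ?_)
    · obtain ⟨s, hs, hse⟩ := (Subgroup.mem_normalizer_iff.1 hg _).1 (Subgroup.mem_map_of_mem _ ht)
      have : glReindex e s = glReindex e (g * t * g⁻¹) := by
        rw [map_mul, map_mul, map_inv]; exact hse
      exact (glReindex e).injective this ▸ hs
    · rwa [← (glReindex e).orderOf_eq]
  commutant g hg := by
    obtain ⟨g, rfl⟩ := (glReindex e).surjective g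
    refine isScal_glReindex e (h.commutant g fun t ht => (glReindex e).injective ?_)
    rw [map_mul, map_mul]
    refine hg _ (mem_detOne.2 ⟨Subgroup.mem_map_of_mem _ (mem_detOne.1 ht).1, ?_⟩)
    rw [det_glReindex, (mem_detOne.1 ht).2]
  noninv := by
    obtain ⟨t, ht, ht2⟩ := h.noninv
    refine ⟨glReindex e t, mem_detOne.2 ⟨Subgroup.mem_map_of_mem _ (mem_detOne.1 ht).1, by
      rw [det_glReindex, (mem_detOne.1 ht).2]⟩, fun h1 => ht2 ?_⟩
    rw [← map_mul, ← map_one (glReindex e)] at h1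
    exact (glReindex e).injective h1
  neg_one := by
    refine ⟨-1, h.neg_one, Units.ext ?_⟩
    show Matrix.reindexAlgEquiv F F e (-1 : Matrix κ κ F) = -1
    rw [map_neg, map_one]

/-- The preimage of a Sylow subgroup under an injection with normal image is a Sylow subgroup. -/
theorem exists_sylow_comap {X G : Type*} [Group X] [Finite X] [Group G] [Finite G] {p : ℕ}
    [Fact p.Prime] (f : X →* G) (hf : Function.Injective f) (hn : f.range.Normal) (T : Sylow p G) :
    ∃ S : Sylow p X, (S : Subgroup X) = (T : Subgroup G).comap f := by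
  have hp : IsPGroup p ((T : Subgroup G).comap f) := T.2.comap_of_injective f hf
  obtain ⟨Q, hQ⟩ := hp.exists_le_sylow
  refine ⟨Q, (Subgroup.eq_of_le_of_card_ge hQ ?_).symm⟩
  obtain ⟨R, hR⟩ := (Q.2.map f).exists_le_sylow
  obtain ⟨g, hg⟩ := MulAction.exists_smul_eq G T R
  have hR' : (Q : Subgroup X).map f ≤ cj g ((T : Subgroup G) ⊓ f.range) := by
    rw [cj_inf, show cj g f.range = f.range from mem_normalizer_iff_cj.mp (by
      rw [Subgroup.normalizer_eq_top]; exact Subgroup.mem_top g)]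
    refine le_inf (hR.trans (le_of_eq ?_)) (Subgroup.map_le_range _ _)
    rw [← hg]; rfl
  have := Nat.le_of_dvd Nat.card_pos (Subgroup.card_dvd_of_le hR')
  rw [card_cj, Subgroup.card_map_of_injective hf] at this
  refine this.trans (le_of_eq ?_)
  rw [inf_comm (T : Subgroup G) f.range, ← Subgroup.map_comap_eq, Subgroup.card_map_of_injective hf]

end General

section Rank2

open SL2

theorem q8_pow_four : ∀ x : QuaternionGroup 2, x ^ 4 = 1 := by decide
theorem q8_conj : ∀ x y : QuaternionGroup 2, y * x = x * y ∨ y * x = x⁻¹ * y := by decide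
theorem q8_commute : ∀ x y : QuaternionGroup 2,
    x * y = y * x → x * x ≠ 1 → y * y ≠ 1 → y = x ∨ y = x⁻¹ := by decide
theorem q8_cover_aux : ∀ x y : QuaternionGroup 2, x * x = 1 ∨ y * y = 1 ∨ x * y = y * x ∨
    ∀ z w : QuaternionGroup 2, z * z = 1 ∨ w * w = 1 ∨ x * z = z * x ∨ y * z = z * y ∨
      (w = x ∨ w = x⁻¹ ∨ w = y ∨ w = y⁻¹ ∨ w = z ∨ w = z⁻¹) := by decide

theorem q8_cover (x y z w : QuaternionGroup 2) (h1 : x * x ≠ 1) (h2 : y * y ≠ 1) (h3 : z * z ≠ 1)
    (h4 : w * w ≠ 1) (h5 : x * y ≠ y * x) (h6 : x * z ≠ z * x) (h7 : y * z ≠ z * y) :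
    w = x ∨ w = x⁻¹ ∨ w = y ∨ w = y⁻¹ ∨ w = z ∨ w = z⁻¹ := by
  have h := (((q8_cover_aux x y).resolve_left h1).resolve_left h2).resolve_left h5 z w
  exact (((h.resolve_left h3).resolve_left h4).resolve_left h6).resolve_left h7

theorem isScal_scalar (u : Fˣ) : IsScal (GeneralLinearGroup.scalar (Fin 2) u : GL (Fin 2) F) := by
  refine ⟨(u : F), Matrix.ext fun i j => ?_⟩
  fin_cases i <;> fin_cases j <;> simp

theorem det_scalar_two (u : Fˣ) :
    GeneralLinearGroup.det (GeneralLinearGroup.scalar (Fin 2) u : GL (Fin 2) F) = u * u :=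
  Units.ext (by simp [sq])

theorem range_toGL_eq : (SpecialLinearGroup.toGL (n := Fin 2) (R := F)).range =
    (GeneralLinearGroup.det : GL (Fin 2) F →* Fˣ).ker := LinGroup.range_toGL

theorem exists_toGL_eq {κ : Type} [Fintype κ] [DecidableEq κ] {g : GL κ F}
    (h : GeneralLinearGroup.det g = 1) : ∃ s, SpecialLinearGroup.toGL s = g := by
  have : g ∈ (GeneralLinearGroup.det : GL κ F →* Fˣ).ker := MonoidHom.mem_ker.2 h
  rw [← LinGroup.range_toGL] at this
  exact this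

theorem det_toGL {κ : Type} [Fintype κ] [DecidableEq κ] (s : SpecialLinearGroup κ F) :
    GeneralLinearGroup.det (SpecialLinearGroup.toGL s : GL κ F) = 1 := Units.ext s.2

theorem isScal_of_center {s : SLtwo F} (h : s ∈ Subgroup.center (SLtwo F)) :
    IsScal (SpecialLinearGroup.toGL s : GL (Fin 2) F) := by
  rcases (mem_center_iff_eq s).1 h with rfl | rfl
  · exact ⟨1, by simp⟩
  · exact ⟨-1, by simp⟩

theorem not_isScalarMat_of_ne {g : GL (Fin 2) F} {h : GL (Fin 2) F} (hne : g * h ≠ h * g) :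
    ¬ IsScalarMat (g : Matrix (Fin 2) (Fin 2) F) := by
  rintro ⟨h01, h10, h00⟩
  apply hne
  refine Units.ext (Matrix.ext fun i j => ?_)
  fin_cases i <;> fin_cases j <;> simp [Matrix.mul_apply, Fin.sum_univ_two, h01, h10, h00, mul_comm]

theorem isScal_of_commute {a b g : GL (Fin 2) F} (hab : a * b ≠ b * a) (ha : g * a = a * g)
    (hb : g * b = b * g) : IsScal g := by
  by_contra hg
  have hns : ¬ IsScalarMat (g : Matrix (Fin 2) (Fin 2) F) := by
    rintro ⟨h01, h10, h00⟩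
    refine hg ⟨g.val 0 0, Matrix.ext fun i j => ?_⟩
    fin_cases i <;> fin_cases j <;> simp [h01, h10, h00]
  refine hab (Units.ext ?_)
  exact commute_of_commute hns (congrArg Units.val ha).symm (congrArg Units.val hb).symm

theorem exists_nonsquare_two_power (hodd : Odd (Fintype.card F)) :
    ∃ (ν : Fˣ) (k : ℕ), ν ^ 2 ^ k = 1 ∧ ∀ x : Fˣ, x * x ≠ ν := by
  classical
  have hchar : ringChar F ≠ 2 := by
    intro h
    have := FiniteField.even_card_of_char_two (F := F) h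
    rw [Nat.odd_iff] at hodd
    omega
  obtain ⟨u, hu⟩ := FiniteField.exists_nonsquare (F := F) hchar
  have hu0 : u ≠ 0 := fun h => hu ⟨0, by rw [h, mul_zero]⟩
  obtain ⟨k, m, hm, hN⟩ := Nat.exists_eq_pow_mul_and_not_dvd
    (Nat.card_pos (α := Fˣ)).ne' 2 (by norm_num)
  obtain ⟨l, rfl⟩ : Odd m := Nat.not_even_iff_odd.1 fun h => hm h.two_dvd
  refine ⟨Units.mk0 u hu0 ^ (2 * l + 1), k, ?_, fun x hx => hu ?_⟩
  · rw [← pow_mul, mul_comm, ← hN, pow_card_eq_one']
  · refine ⟨(x * (Units.mk0 u hu0 ^ l)⁻¹ : Fˣ), ?_⟩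
    rw [← Units.val_mul, mul_mul_mul_comm, hx, ← mul_inv, ← pow_add, ← two_mul, pow_succ',
      mul_inv_cancel_right, Units.val_mk0]

theorem exists_det_nonsquare (hodd : Odd (Fintype.card F)) (T : Sylow 2 (GL (Fin 2) F)) :
    ∃ t ∈ (T : Subgroup (GL (Fin 2) F)), ∀ x : Fˣ, x * x ≠ GeneralLinearGroup.det t := by
  haveI : Fact (Nat.Prime 2) := ⟨Nat.prime_two⟩
  obtain ⟨ν, k, hk, hν⟩ := exists_nonsquare_two_power hodd
  let f : Fˣ →* GL (Fin 2) F :=
    { toFun := fun x =>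
        { val := Matrix.diagonal ![(x : F), 1]
          inv := Matrix.diagonal ![((x⁻¹ : Fˣ) : F), 1]
          val_inv := by
            rw [Matrix.diagonal_mul_diagonal, ← Matrix.diagonal_one]
            congr 1; funext i; fin_cases i <;> simp
          inv_val := by
            rw [Matrix.diagonal_mul_diagonal, ← Matrix.diagonal_one]
            congr 1; funext i; fin_cases i <;> simp }
      map_one' := Units.ext (by
        show Matrix.diagonal _ = 1
        rw [← Matrix.diagonal_one]; congr 1; funext i; fin_cases i <;> simp)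
      map_mul' := fun x y => Units.ext (by
        show Matrix.diagonal _ = Matrix.diagonal _ * Matrix.diagonal _
        rw [Matrix.diagonal_mul_diagonal]; congr 1; funext i; fin_cases i <;> simp) }
  have hp : IsPGroup 2 (Subgroup.zpowers (f ν)) := by
    obtain ⟨j, -, hj⟩ := (Nat.dvd_prime_pow Nat.prime_two (m := k)).1
      (orderOf_dvd_of_pow_eq_one (show f ν ^ 2 ^ k = 1 by rw [← map_pow, hk, map_one]))
    exact IsPGroup.of_card (n := j) (by rw [Nat.card_zpowers, hj])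
  obtain ⟨P, hP⟩ := hp.exists_le_sylow
  obtain ⟨g, hg⟩ := MulAction.exists_smul_eq (GL (Fin 2) F) P T
  refine ⟨g * f ν * g⁻¹, ?_, fun x hx => hν x (hx.trans ?_)⟩
  · rw [← hg]
    exact ⟨f ν, hP (Subgroup.mem_zpowers _), rfl⟩
  · rw [map_mul, map_mul, map_inv, mul_inv_cancel_comm]
    exact Units.ext (by simp [f, Matrix.det_diagonal, Fin.prod_univ_two])

/-- The Sylow data in `SL₂`. -/
theorem sl2_facts (hodd : Odd (Fintype.card F)) (S : Sylow 2 (SLtwo F)) :
    (∃ a ∈ (S : Subgroup (SLtwo F)), ∃ b ∈ (S : Subgroup (SLtwo F)), a * b ≠ b * a) ∧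
    (Subgroup.normalizer ((S : Subgroup (SLtwo F)) : Set (SLtwo F)) = (S : Subgroup (SLtwo F)) ∨
      (Nat.card (Subgroup.normalizer ((S : Subgroup (SLtwo F)) : Set (SLtwo F))) = 24 ∧
        Nonempty ((S : Subgroup (SLtwo F)) ≃* QuaternionGroup 2))) := by
  haveI : Fact (Nat.Prime 2) := ⟨Nat.prime_two⟩
  obtain ⟨k, hk, hfac, ⟨e⟩⟩ := LinGroup.exists_sylow_two_equiv_quaternion hodd S
  refine ⟨?_, ?_⟩
  · refine ⟨_, (e.symm (.a 1)).2, _, (e.symm (.xa 0)).2, fun h => ?_⟩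
    have h' : e.symm (.a 1) * e.symm (.xa 0) = e.symm (.xa 0) * e.symm (.a 1) := Subtype.ext h
    rw [← map_mul, ← map_mul, e.symm.injective.eq_iff, QuaternionGroup.a_mul_xa,
      QuaternionGroup.xa_mul_a] at h'
    simp only [QuaternionGroup.xa.injEq, zero_sub, zero_add] at h'
    have h2 : ((2 : ℕ) : ZMod (2 * 2 ^ k)) = 0 := by
      push_cast
      linear_combination -h'
    have := Nat.le_of_dvd two_pos ((ZMod.natCast_eq_zero_iff _ _).1 h2)
    have : 2 ^ 1 ≤ 2 ^ k := Nat.pow_le_pow_right two_pos hk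
    omega
  · obtain ⟨S₀, -, h17, h35⟩ := exists_sylowTwo_facts hodd
    obtain ⟨g, hg⟩ := MulAction.exists_smul_eq (SLtwo F) S₀ S
    have eS : (S : Subgroup (SLtwo F)) = cj g (S₀ : Subgroup (SLtwo F)) := by rw [← hg]; rfl
    have hq := Nat.odd_iff.1 hodd
    rcases (show (Fintype.card F % 8 = 1 ∨ Fintype.card F % 8 = 7) ∨
        (Fintype.card F % 8 = 3 ∨ Fintype.card F % 8 = 5) by omega) with h | h
    · left
      rw [eS, normalizer_cj, h17 h]
    · right
      have hk1 : k = 1 := by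
        by_contra hk1
        have hd : 2 ^ (Nat.card (SLtwo F)).factorization 2 ∣ Nat.card (SLtwo F) :=
          Nat.ordProj_dvd _ _
        rw [hfac, card_SLtwo] at hd
        have h16 : 16 ∣ Fintype.card F * (Fintype.card F ^ 2 - 1) := by
          refine (Dvd.intro (2 ^ (k - 2)) ?_).trans hd
          rw [show 2 ^ k = 2 ^ 2 * 2 ^ (k - 2) by rw [← pow_add]; congr 1; omega]
          ring
        have h16' : 16 ∣ Fintype.card F ^ 2 - 1 :=
          (Nat.Coprime.dvd_of_dvd_mul_left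
            (by rw [show (16 : ℕ) = 2 ^ 4 by norm_num]
                exact Nat.Coprime.pow_left _ (Nat.coprime_two_left.2 hodd)) h16)
        have hmod : Fintype.card F ^ 2 % 16 = 1 := by
          have : 1 ≤ Fintype.card F ^ 2 := Nat.one_le_pow _ _ Fintype.card_pos
          omega
        rw [Nat.pow_mod] at hmod
        have : Fintype.card F % 16 = 3 ∨ Fintype.card F % 16 = 5 ∨ Fintype.card F % 16 = 11 ∨
            Fintype.card F % 16 = 13 := by omega
        rcases this with e | e | e | e <;> rw [e] at hmod <;> norm_num at hmod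
      subst hk1
      refine ⟨?_, ⟨e⟩⟩
      rw [eS, normalizer_cj, card_cj, h35 h, S₀.card_eq_multiplicity.trans hfac]
      norm_num

/-- The base of the induction. -/
theorem good_two (hodd : Odd (Fintype.card F)) (T : Sylow 2 (GL (Fin 2) F)) :
    Good (T : Subgroup (GL (Fin 2) F)) := by
  classical
  haveI : Fact (Nat.Prime 2) := ⟨Nat.prime_two⟩
  have h2 : (2 : F) ≠ 0 := two_ne_zero_iff_odd.2 hodd
  set φ : SLtwo F →* GL (Fin 2) F := SpecialLinearGroup.toGL with hφ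
  obtain ⟨S, hS⟩ := exists_sylow_comap φ SpecialLinearGroup.toGL_injective
    (by rw [hφ, range_toGL_eq]; infer_instance) T
  have hmem : ∀ s, φ s ∈ detOne (T : Subgroup (GL (Fin 2) F)) ↔ s ∈ (S : Subgroup (SLtwo F)) := fun s => by
    rw [mem_detOne, hS, Subgroup.mem_comap]
    exact ⟨And.left, fun h => ⟨h, det_toGL s⟩⟩
  obtain ⟨⟨a, ha, b, hb, hab⟩, hN⟩ := sl2_facts hodd S
  have hab' : φ a * φ b ≠ φ b * φ a := fun h => hab (SpecialLinearGroup.toGL_injective (by
    rw [map_mul, map_mul]; exact h))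
  refine ⟨T.2, fun g hg ho => ?_, fun g hg => isScal_of_commute hab' (hg _ ((hmem a).2 ha))
    (hg _ ((hmem b).2 hb)), ?_, neg_one_mem_sylow T⟩
  swap
  · refine ⟨φ a, (hmem a).2 ha, fun h => hab ?_⟩
    rw [← map_mul, ← map_one φ] at h
    exact (Subgroup.mem_center_iff.1
      (mem_center_of_mul_self h2 (SpecialLinearGroup.toGL_injective h)) b).symm
  -- normalise the determinant
  obtain ⟨m, hm⟩ := ho
  set ε : Fˣ := GeneralLinearGroup.det g ^ (m + 1) with hε
  have hδ : GeneralLinearGroup.det g ^ (2 * m + 1) = 1 := by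
    rw [← map_pow, ← hm, pow_orderOf_eq_one, map_one]
  set z : GL (Fin 2) F := GeneralLinearGroup.scalar (Fin 2) ε⁻¹ with hz
  have hzs : IsScal z := isScal_scalar ε⁻¹
  have hdet : GeneralLinearGroup.det (g * z) = 1 := by
    rw [map_mul, hz, det_scalar_two, ← mul_inv]
    rw [hε, ← pow_add, show m + 1 + (m + 1) = 2 * m + 1 + 1 by ring, pow_succ, hδ, one_mul,
      mul_inv_cancel]
  obtain ⟨h, hh⟩ := exists_toGL_eq hdet
  have hodd' : φ h ^ (2 * m + 1) = 1 := by
    rw [hφ, hh, Commute.mul_pow (hzs.comm g).symm, ← hm, pow_orderOf_eq_one, one_mul, hm,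
      hz, ← map_pow, inv_pow, hε, ← pow_mul, mul_comm, pow_mul, hδ, one_pow, inv_one, map_one]
  have hnT : φ h ∈ Subgroup.normalizer ((T : Subgroup (GL (Fin 2) F)) : Set (GL (Fin 2) F)) := by
    rw [hφ, hh]
    refine mul_mem hg (mem_normalizer_of_forall fun x hx => ?_)
    rwa [hzs.comm x, mul_inv_cancel_right]
  have hnS : h ∈ Subgroup.normalizer ((S : Subgroup (SLtwo F)) : Set (SLtwo F)) :=
    mem_normalizer_of_forall fun x hx => by
      rw [← hmem] at hx ⊢
      rw [map_mul, map_mul, map_inv]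
      exact (Subgroup.mem_normalizer_iff.1 (detOne_normal hnT) _).1 hx
  suffices hsc : IsScal (φ h) by
    obtain ⟨c, hc⟩ := hsc
    obtain ⟨d, hd⟩ := isScal_scalar ε
    refine ⟨c * d, ?_⟩
    have e : g = φ h * GeneralLinearGroup.scalar (Fin 2) ε := by
      rw [hφ, hh, hz, mul_assoc, ← map_mul, inv_mul_cancel, map_one, mul_one]
    rw [e, Units.val_mul, hc, hd, smul_mul_smul_comm, mul_one]
  have hh1 : h ^ (2 * m + 1) = 1 := SpecialLinearGroup.toGL_injective (by
    rw [map_pow, map_one]; exact hodd')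
  rcases hN with hN | ⟨hN, ⟨e⟩⟩
  · rw [hN] at hnS
    obtain ⟨j, hj⟩ := S.2 ⟨h, hnS⟩
    rw [eq_one_of_pow_two_odd (g := h) (k := j) (by simpa using congrArg Subtype.val hj) hh1 ⟨m, rfl⟩,
      map_one]
    exact ⟨1, by simp⟩
  have h3 : h ^ 3 = 1 := by
    have d1 : orderOf h ∣ 24 := by
      rw [← hN, ← Subgroup.orderOf_mk _ hnS]
      exact orderOf_dvd_natCard _
    have d2 : orderOf h ∣ 2 * m + 1 := orderOf_dvd_of_pow_eq_one hh1
    have hc : Nat.Coprime (orderOf h) 8 := by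
      rw [show (8 : ℕ) = 2 ^ 3 by norm_num]
      exact Nat.Coprime.pow_right _ (Nat.coprime_two_right.2 (Odd.of_dvd_nat ⟨m, rfl⟩ d2))
    exact orderOf_dvd_iff_pow_eq_one.1 (hc.dvd_of_dvd_mul_left (by simpa using d1))
  set H := φ h with hH
  have hH3 : H ^ 3 = 1 := by rw [hH, ← map_pow, h3, map_one]
  set D := detOne (T : Subgroup (GL (Fin 2) F)) with hD
  have hDH : ∀ x ∈ D, H * x * H⁻¹ ∈ D := fun x hx =>
    (Subgroup.mem_normalizer_iff.1 (detOne_normal hnT) x).1 hx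
  -- transport of the facts about the quaternion group
  have tr : ∀ x ∈ D, ∃ s : (S : Subgroup (SLtwo F)), φ s = x := fun x hx => by
    obtain ⟨s, rfl⟩ := exists_toGL_eq (mem_detOne.1 hx).2
    exact ⟨⟨s, (hmem s).1 hx⟩, rfl⟩
  let ψ : QuaternionGroup 2 →* GL (Fin 2) F :=
    φ.comp ((S : Subgroup (SLtwo F)).subtype.comp e.symm.toMonoidHom)
  have hψ : Function.Injective ψ := SpecialLinearGroup.toGL_injective.comp
    ((Subtype.val_injective).comp e.symm.injective)
  have tr' : ∀ x ∈ D, ∃ u, ψ u = x := fun x hx => by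
    obtain ⟨s, rfl⟩ := tr x hx
    exact ⟨e s, by simp [ψ]⟩
  have conjD : ∀ x ∈ D, ∀ y ∈ D, y * x * y⁻¹ = x ∨ y * x * y⁻¹ = x⁻¹ := fun x hx y hy => by
    obtain ⟨u, rfl⟩ := tr' x hx
    obtain ⟨v, rfl⟩ := tr' y hy
    rcases q8_conj u v with he | he
    · left; rw [mul_inv_eq_iff_eq_mul, ← map_mul, ← map_mul, he]
    · right; rw [mul_inv_eq_iff_eq_mul, ← map_inv, ← map_mul, ← map_mul, he]
  have commD : ∀ x ∈ D, ∀ y ∈ D, x * y = y * x → x * x ≠ 1 → y * y ≠ 1 → y = x ∨ y = x⁻¹ := by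
    intro x hx y hy he hx2 hy2
    obtain ⟨u, rfl⟩ := tr' x hx
    obtain ⟨v, rfl⟩ := tr' y hy
    rw [← map_mul, ← map_mul, hψ.eq_iff] at he
    rcases q8_commute u v he (fun h => hx2 (by rw [← map_mul, h, map_one]))
      (fun h => hy2 (by rw [← map_mul, h, map_one])) with rfl | rfl
    · exact Or.inl rfl
    · exact Or.inr (map_inv _ _)
  by_contra hns
  -- a moved element
  obtain ⟨A, hA, hAH⟩ : ∃ A ∈ D, H * A ≠ A * H := by
    by_contra hall
    push Not at hall
    exact hns (isScal_of_commute hab' (hall _ ((hmem a).2 ha)) (hall _ ((hmem b).2 hb)))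
  have hA2 : A * A ≠ 1 := by
    intro h1
    apply hAH
    obtain ⟨s, rfl⟩ := tr A hA
    rw [← map_mul, ← map_one φ] at h1
    exact ((isScal_of_center (mem_center_of_mul_self h2
      (SpecialLinearGroup.toGL_injective h1))).comm H).symm
  set B := H * A * H⁻¹ with hB
  set C := H * B * H⁻¹ with hC
  have hCA : H * C * H⁻¹ = A := by
    rw [hC, hB]
    have h3' : H * H * H = 1 := by rw [← hH3, pow_succ, pow_two]
    calc H * (H * (H * A * H⁻¹) * H⁻¹) * H⁻¹ = H * H * H * A * (H * H * H)⁻¹ := by group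
      _ = A := by rw [h3']; simp
  have hBD : B ∈ D := hDH A hA
  have hCD : C ∈ D := hDH B hBD
  have hB2 : B * B ≠ 1 := fun h1 => hA2 (by
    have : H * (A * A) * H⁻¹ = 1 := by rw [← h1, hB]; group
    exact conj_eq_one_iff.1 this)
  have hC2 : C * C ≠ 1 := fun h1 => hB2 (by
    have : H * (B * B) * H⁻¹ = 1 := by rw [← h1, hC]; group
    exact conj_eq_one_iff.1 this)
  have hAB : A * B ≠ B * A := by
    intro he
    rcases commD A hA B hBD he hA2 hB2 with e1 | e1
    · exact hAH (mul_inv_eq_iff_eq_mul.1 e1)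
    · have e2 : C = A := by rw [hC, e1, ← conj_inv, ← hB, e1, inv_inv]
      rw [e2] at hCA
      exact hA2 (by rw [mul_eq_one_iff_eq_inv]; exact (hCA.symm.trans (hB ▸ e1)))
  have hconj : ∀ x y : GL (Fin 2) F, (H * x * H⁻¹) * (H * y * H⁻¹) = H * (x * y) * H⁻¹ :=
    fun x y => by group
  have hBC : B * C ≠ C * B := fun he => hAB (by
    have e1 : H * (A * B) * H⁻¹ = H * (B * A) * H⁻¹ :=
      (hconj A B).symm.trans (he.trans (hconj B A))
    exact mul_left_cancel (mul_right_cancel e1))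
  have hAC : A * C ≠ C * A := fun he => hBC (by
    have e1 : H * (B * C) * H⁻¹ = H * (C * B) * H⁻¹ := by
      rw [← hconj B C, ← hconj C B, hCA]; exact he.symm
    exact mul_left_cancel (mul_right_cancel e1))
  have cover : ∀ w ∈ D, w * w ≠ 1 →
      w = A ∨ w = A⁻¹ ∨ w = B ∨ w = B⁻¹ ∨ w = C ∨ w = C⁻¹ := by
    intro w hw hw2
    obtain ⟨x, hx⟩ := tr' A hA
    obtain ⟨y, hy⟩ := tr' B hBD
    obtain ⟨u, hu⟩ := tr' C hCD
    obtain ⟨v, hv⟩ := tr' w hw
    have n1 : ∀ {x : QuaternionGroup 2} {X : GL (Fin 2) F}, ψ x = X → X * X ≠ 1 → x * x ≠ 1 :=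
      fun hX h1 h => h1 (by rw [← hX, ← map_mul, h, map_one])
    have n2 : ∀ {x y : QuaternionGroup 2} {X Y : GL (Fin 2) F}, ψ x = X → ψ y = Y →
        X * Y ≠ Y * X → x * y ≠ y * x :=
      fun hX hY h1 h => h1 (by rw [← hX, ← hY, ← map_mul, ← map_mul, h])
    rw [← hx, ← hy, ← hu, ← hv]
    rcases q8_cover x y u v (n1 hx hA2) (n1 hy hB2) (n1 hu hC2) (n1 hv hw2) (n2 hx hy hAB)
      (n2 hx hu hAC) (n2 hy hu hBC) with rfl | rfl | rfl | rfl | rfl | rfl <;> simp [map_inv]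
  -- an element with non-square determinant
  obtain ⟨τ, hτ, hτd⟩ := exists_det_nonsquare hodd T
  have hTD : ∀ t ∈ (T : Subgroup (GL (Fin 2) F)), ∀ x ∈ D, t * x * t⁻¹ ∈ D := fun t ht x hx => by
    rw [hD, mem_detOne] at hx ⊢
    exact ⟨mul_mem (mul_mem ht hx.1) (inv_mem ht), by simp [map_mul, hx.2]⟩
  set R : GL (Fin 2) F → GL (Fin 2) F → Prop := fun x y => y = x ∨ y = x⁻¹ with hR
  have Rconj : ∀ (t : GL (Fin 2) F) {x y}, R x y → R (t * x * t⁻¹) (t * y * t⁻¹) := by
    rintro t x y (rfl | rfl)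
    · exact Or.inl rfl
    · exact Or.inr (conj_inv).symm
  have Rtrans : ∀ {x y u}, R x y → R y u → R x u := by
    rintro x y u (rfl | rfl) (rfl | rfl)
    · exact Or.inl rfl
    · exact Or.inr rfl
    · exact Or.inr rfl
    · exact Or.inl (inv_inv x)
  have Rsymm : ∀ {x y}, R x y → R y x := by
    rintro x y (rfl | rfl)
    · exact Or.inl rfl
    · exact Or.inr (inv_inv x).symm
  -- `τ` commutes with `H` on the classes
  have shift : ∀ x ∈ D, R (H * (τ * x * τ⁻¹) * H⁻¹) (τ * (H * x * H⁻¹) * τ⁻¹) := by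
    intro x hx
    set s := H * τ * H⁻¹ * τ⁻¹ with hs
    have hsD : s ∈ D := by
      rw [hD, mem_detOne]
      refine ⟨mul_mem ((Subgroup.mem_normalizer_iff.1 hnT τ).1 hτ) (inv_mem hτ), ?_⟩
      simp [hs, map_mul]
    have hy : τ * (H * x * H⁻¹) * τ⁻¹ ∈ D := hTD τ hτ _ (hDH x hx)
    have e1 : H * (τ * x * τ⁻¹) * H⁻¹ = s * (τ * (H * x * H⁻¹) * τ⁻¹) * s⁻¹ := by rw [hs]; group
    rw [e1]
    exact Rsymm (conjD _ hy s hsD)
  have fixA : R A (τ * A * τ⁻¹) := by
    have hfA : τ * A * τ⁻¹ * (τ * A * τ⁻¹) ≠ 1 := fun h1 => hA2 (by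
      have : τ * (A * A) * τ⁻¹ = 1 := by rw [← h1]; group
      exact conj_eq_one_iff.1 this)
    have cases3 : R A (τ * A * τ⁻¹) ∨ R B (τ * A * τ⁻¹) ∨ R C (τ * A * τ⁻¹) := by
      rcases cover _ (hTD τ hτ A hA) hfA with e | e | e | e | e | e
      exacts [Or.inl (Or.inl e), Or.inl (Or.inr e), Or.inr (Or.inl (Or.inl e)),
        Or.inr (Or.inl (Or.inr e)), Or.inr (Or.inr (Or.inl e)), Or.inr (Or.inr (Or.inr e))]
    have next1 : ∀ {x y}, x ∈ D → R y (τ * x * τ⁻¹) →
        R (H * y * H⁻¹) (τ * (H * x * H⁻¹) * τ⁻¹) :=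
      fun hx hr => Rtrans (Rconj H hr) (shift _ hx)
    have finish : R A (τ ^ 3 * A * (τ ^ 3)⁻¹) → R A (τ * A * τ⁻¹) := by
      intro h1
      have hall : ∀ i : ℕ, R A ((τ ^ 3) ^ i * A * ((τ ^ 3) ^ i)⁻¹) := by
        intro i
        induction i with
        | zero => left; simp
        | succ i ih =>
          refine Rtrans h1 (Rtrans (Rconj (τ ^ 3) ih) (Or.inl ?_))
          rw [pow_succ']; group
      obtain ⟨k, hk⟩ := T.2 ⟨τ, hτ⟩
      have hk' : τ ^ 2 ^ k = 1 := congrArg Subtype.val hk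
      have hcop : Nat.Coprime 3 (2 ^ k) := Nat.Coprime.pow_right _ (by norm_num)
      obtain ⟨i, -, hi⟩ := Nat.exists_mul_mod_eq_one_of_coprime hcop (by
        rcases Nat.eq_zero_or_pos k with rfl | hk0
        · exfalso
          apply hτd 1
          rw [pow_zero, pow_one] at hk'
          rw [hk', map_one, one_mul]
        · exact Nat.one_lt_two_pow hk0.ne')
      have e1 : (τ ^ 3) ^ i = τ := by
        rw [← pow_mul, ← Nat.mod_add_div (3 * i) (2 ^ k), hi, pow_add, pow_mul τ (2 ^ k), hk',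
          one_pow, pow_one, mul_one]
      simpa only [e1] using hall i
    have e3 : τ ^ 3 * A * (τ ^ 3)⁻¹ = τ * (τ * (τ * A * τ⁻¹) * τ⁻¹) * τ⁻¹ := by
      rw [show τ ^ 3 = τ * τ * τ by rw [pow_succ, pow_two]]; group
    rcases cases3 with h1 | h1 | h1
    · exact h1
    · have r1 : R C (τ * B * τ⁻¹) := next1 hA h1
      have r2 : R A (τ * C * τ⁻¹) := by have := next1 hBD r1; rwa [← hC, hCA] at this
      refine finish ?_
      rw [e3]
      exact Rtrans r2 (Rconj τ (Rtrans r1 (Rconj τ h1)))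
    · have r1 : R A (τ * B * τ⁻¹) := by have := next1 hA h1; rwa [hCA] at this
      have r2 : R B (τ * C * τ⁻¹) := next1 hBD r1
      refine finish ?_
      rw [e3]
      exact Rtrans r1 (Rconj τ (Rtrans r2 (Rconj τ h1)))
  have fixB : R B (τ * B * τ⁻¹) := Rtrans (Rconj H fixA) (shift A hA)
  have hBA : B * A * B⁻¹ = A⁻¹ := (conjD A hA B hBD).resolve_left fun e1 =>
    hAB (mul_inv_eq_iff_eq_mul.1 e1).symm
  have hAB' : A * B * A⁻¹ = B⁻¹ := (conjD B hBD A hA).resolve_left fun e1 =>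
    hAB (mul_inv_eq_iff_eq_mul.1 e1)
  have hdD : ∀ x ∈ D, GeneralLinearGroup.det x = 1 := fun x hx => (mem_detOne.1 hx).2
  obtain ⟨τ₁, hτ₁d, hA1, hB1⟩ : ∃ τ₁, GeneralLinearGroup.det τ₁ = GeneralLinearGroup.det τ ∧
      τ₁ * A * τ₁⁻¹ = A ∧ R B (τ₁ * B * τ₁⁻¹) := by
    rcases fixA with e1 | e1
    · exact ⟨τ, rfl, e1, fixB⟩
    · refine ⟨τ * B, by rw [map_mul, hdD B hBD, mul_one], ?_, ?_⟩
      · calc τ * B * A * (τ * B)⁻¹ = τ * (B * A * B⁻¹) * τ⁻¹ := by group
          _ = A := by rw [hBA, ← conj_inv, e1, inv_inv]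
      · rwa [show τ * B * B * (τ * B)⁻¹ = τ * B * τ⁻¹ by group]
  obtain ⟨τ₂, hτ₂d, hA3, hB3⟩ : ∃ τ₂, GeneralLinearGroup.det τ₂ = GeneralLinearGroup.det τ ∧
      τ₂ * A * τ₂⁻¹ = A ∧ τ₂ * B * τ₂⁻¹ = B := by
    rcases hB1 with e1 | e1
    · exact ⟨τ₁, hτ₁d, hA1, e1⟩
    · refine ⟨τ₁ * A, by rw [map_mul, hdD A hA, mul_one, hτ₁d], ?_, ?_⟩
      · rwa [show τ₁ * A * A * (τ₁ * A)⁻¹ = τ₁ * A * τ₁⁻¹ by group]
      · calc τ₁ * A * B * (τ₁ * A)⁻¹ = τ₁ * (A * B * A⁻¹) * τ₁⁻¹ := by group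
          _ = B := by rw [hAB', ← conj_inv, e1, inv_inv]
  obtain ⟨c, hc⟩ := isScal_of_commute hAB (mul_inv_eq_iff_eq_mul.1 hA3) (mul_inv_eq_iff_eq_mul.1 hB3)
  have hdc : (GeneralLinearGroup.det τ₂ : F) = c * c := by
    rw [GeneralLinearGroup.val_det_apply, hc]
    simp [sq]
  have hc0 : c ≠ 0 := fun h0 => (GeneralLinearGroup.det τ₂).ne_zero (by rw [hdc, h0, mul_zero])
  exact hτd (Units.mk0 c hc0) (by rw [← hτ₂d]; exact Units.ext hdc.symm)

end Rank2

/-- Good Sylow subgroups of `GL_{2^{k+1}}`. -/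
theorem exists_good (hodd : Odd (Fintype.card F)) :
    ∀ k : ℕ, ∃ T : Subgroup (GL (Fin (2 * 2 ^ k)) F),
      Good T ∧ Nat.card T = 2 ^ (Nat.card (GL (Fin (2 * 2 ^ k)) F)).factorization 2
  | 0 => by
    haveI : Fact (Nat.Prime 2) := ⟨Nat.prime_two⟩
    obtain ⟨T⟩ : Nonempty (Sylow 2 (GL (Fin 2) F)) := Sylow.nonempty
    exact ⟨(T : Subgroup (GL (Fin 2) F)), good_two hodd T, T.card_eq_multiplicity⟩
  | k + 1 => by
    obtain ⟨T, hT, hc⟩ := exists_good hodd k
    let e : Fin (2 * 2 ^ k) ⊕ Fin (2 * 2 ^ k) ≃ Fin (2 * 2 ^ (k + 1)) :=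
      finSumFinEquiv.trans (finCongr (by ring))
    haveI : Nonempty (Fin (2 * 2 ^ k)) := ⟨⟨0, by positivity⟩⟩
    refine ⟨(double T).map (glReindex e).toMonoidHom,
      (good_double hT (SL2.two_ne_zero_iff_odd.2 hodd) (by simp)).map e, ?_⟩
    rw [Subgroup.card_map_of_injective (f := (glReindex e).toMonoidHom) (glReindex e).injective, card_double, hc,
      ClassicalSylowTwo.v_general_even hodd, ClassicalSylowTwo.v_general_even hodd,
      ← pow_add, ← pow_succ]
    congr 1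
    have h1 := ClassicalSylowTwo.vfac_two_pow k
    have h3 : (2 ^ (k + 1)) = 2 * 2 ^ k := by ring
    rw [h3, ClassicalSylowTwo.vfac_two_mul, mul_assoc]
    omega

/-- For `n = 2 ^ (k + 2)` Sylow 2-subgroups of `SL_n` are self-normalizing up to the centre. -/
theorem exists_sylow_odd (hodd : Odd (Fintype.card F)) (k : ℕ) :
    ∃ S : Sylow 2 (SpecialLinearGroup (Fin (2 ^ (k + 2))) F),
      Subgroup.normalizer ((S : Subgroup (SpecialLinearGroup (Fin (2 ^ (k + 2))) F)) :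
        Set (SpecialLinearGroup (Fin (2 ^ (k + 2))) F)) ≤
      (S : Subgroup (SpecialLinearGroup (Fin (2 ^ (k + 2))) F)) ⊔ Subgroup.center _ := by
  classical
  haveI : Fact (Nat.Prime 2) := ⟨Nat.prime_two⟩
  obtain ⟨T, hT, hc⟩ := exists_good hodd k
  haveI : Nonempty (Fin (2 * 2 ^ k)) := ⟨⟨0, by positivity⟩⟩
  let e : Fin (2 * 2 ^ k) ⊕ Fin (2 * 2 ^ k) ≃ Fin (2 ^ (k + 2)) :=
    finSumFinEquiv.trans (finCongr (by ring))
  have h2 := SL2.two_ne_zero_iff_odd.2 hodd
  have hev : Even (Fintype.card (Fin (2 * 2 ^ k))) := by simp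
  let φ : SpecialLinearGroup (Fin (2 ^ (k + 2))) F →* GL (Fin (2 * 2 ^ k) ⊕ Fin (2 * 2 ^ k)) F :=
    (glReindex e).symm.toMonoidHom.comp SpecialLinearGroup.toGL
  have hφ : Function.Injective φ :=
    (glReindex e).symm.injective.comp SpecialLinearGroup.toGL_injective
  have hdet : ∀ s, GeneralLinearGroup.det (φ s) = 1 := fun s => by
    rw [← det_glReindex e]
    show GeneralLinearGroup.det (glReindex e ((glReindex e).symm (SpecialLinearGroup.toGL s))) = 1
    rw [MulEquiv.apply_symm_apply, det_toGL]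
  have hrange : φ.range = (GeneralLinearGroup.det :
      GL (Fin (2 * 2 ^ k) ⊕ Fin (2 * 2 ^ k)) F →* Fˣ).ker := by
    ext g
    rw [MonoidHom.mem_ker, MonoidHom.mem_range]
    constructor
    · rintro ⟨s, rfl⟩; exact hdet s
    · intro hg
      obtain ⟨s, hs⟩ := exists_toGL_eq (g := glReindex e g) (by rw [det_glReindex, hg])
      exact ⟨s, by show (glReindex e).symm _ = g; rw [hs, MulEquiv.symm_apply_apply]⟩
  have hcard : Nat.card (double T) =
      2 ^ (Nat.card (GL (Fin (2 * 2 ^ k) ⊕ Fin (2 * 2 ^ k)) F)).factorization 2 := by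
    let e' : Fin (2 * 2 ^ k) ⊕ Fin (2 * 2 ^ k) ≃ Fin (2 * 2 ^ (k + 1)) :=
      finSumFinEquiv.trans (finCongr (by ring))
    rw [Nat.card_congr (glReindex (F := F) e').toEquiv, card_double, hc,
      ClassicalSylowTwo.v_general_even hodd, ClassicalSylowTwo.v_general_even hodd,
      ← pow_add, ← pow_succ]
    congr 1
    have h1 := ClassicalSylowTwo.vfac_two_pow k
    have h3 : (2 ^ (k + 1)) = 2 * 2 ^ k := by ring
    rw [h3, ClassicalSylowTwo.vfac_two_mul, mul_assoc]
    omega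
  obtain ⟨S, hS⟩ := exists_sylow_comap φ hφ (by rw [hrange]; infer_instance)
    (Sylow.ofCard (double T) hcard)
  refine ⟨S, fun g hg => ?_⟩
  have hmem : ∀ s, φ s ∈ detOne (double T) ↔ s ∈ (S : Subgroup _) := fun s => by
    rw [mem_detOne, hS, Subgroup.mem_comap, Sylow.coe_ofCard]
    exact ⟨And.left, fun h => ⟨h, hdet s⟩⟩
  obtain ⟨j, m, hm, hj⟩ := Nat.exists_eq_pow_mul_and_not_dvd (orderOf_pos g).ne' 2 (by norm_num)
  obtain ⟨c, d, hcd⟩ : ∃ c d : ℤ, c * (2 ^ j : ℕ) + d * (m : ℕ) = 1 := by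
    have hcop : Nat.Coprime (2 ^ j) m := Nat.Coprime.pow_left _ ((Nat.prime_two.coprime_iff_not_dvd).2 hm)
    exact ⟨Nat.gcdA (2 ^ j) m, Nat.gcdB (2 ^ j) m, by
      have := Nat.gcd_eq_gcd_ab (2 ^ j) m; rw [hcop] at this; push_cast at this ⊢; linear_combination -this⟩
  have hg2 : (g ^ (2 ^ j : ℕ)) ^ c * (g ^ m) ^ d = g := by
    rw [← zpow_natCast, ← zpow_natCast g m, ← _root_.zpow_mul, ← _root_.zpow_mul, ← _root_.zpow_add,
      show ((2 ^ j : ℕ) : ℤ) * c + (m : ℤ) * d = 1 by linear_combination hcd, zpow_one]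
  rw [← hg2]
  refine mul_mem (zpow_mem (Subgroup.mem_sup_right ?_) c) (zpow_mem (Subgroup.mem_sup_left ?_) d)
  · set u := g ^ (2 ^ j) with hu
    have huN : φ u ∈ Subgroup.normalizer (detOne (double T) : Set (GL _ F)) := by
      refine mem_normalizer_of_forall fun x hx => ?_
      obtain ⟨s, rfl⟩ : x ∈ φ.range := by
        rw [hrange, MonoidHom.mem_ker]; exact (mem_detOne.1 hx).2
      rw [← map_inv, ← map_mul, ← map_mul, hmem]
      exact (Subgroup.mem_normalizer_iff.1 (pow_mem hg _) s).1 ((hmem s).1 hx)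
    have huo : Odd (orderOf (φ u)) := by
      refine Odd.of_dvd_nat (Nat.not_even_iff_odd.1 fun h => hm h.two_dvd)
        (orderOf_dvd_of_pow_eq_one ?_)
      rw [← map_pow, hu, ← pow_mul, ← hj, pow_orderOf_eq_one, map_one]
    have hsc := odd_scal_detOne hT h2 hev _ huN huo
    rw [Subgroup.mem_center_iff]
    intro x
    apply hφ
    rw [map_mul, map_mul]
    exact (hsc.comm _).symm
  · have hpow : (g ^ m) ^ 2 ^ j = 1 := by rw [← pow_mul, mul_comm, ← hj, pow_orderOf_eq_one]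
    have hp : IsPGroup 2 (Subgroup.zpowers (g ^ m)) := by
      obtain ⟨i, -, hi⟩ := (Nat.dvd_prime_pow Nat.prime_two).1 (orderOf_dvd_of_pow_eq_one hpow)
      exact IsPGroup.of_card (n := i) (by rw [Nat.card_zpowers, hi])
    have h := hp.to_sup_of_normal_right' S.2 (Subgroup.zpowers_le.2 (pow_mem hg m))
    exact (le_sup_left.trans (le_of_eq (S.3 h le_sup_right))) (Subgroup.mem_zpowers _)

end Cfsg.Agent.Lib.PronormalOddIndex
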