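import Mathlib
import Cfsg.Agent.Lib.Pronormal.SylowOvergroup

/-!
Pronormality of subgroups of odd index: reduction to one Sylow subgroup and to a covering group.
-/

set_option autoImplicit false

namespace Cfsg.Agent.Lib.PronormalOddIndex

open Cfsg
open Cfsg.Agent.Lib.ConjFunctor
open Cfsg.Agent.Lib.PronormalSylow

universe u v

variable {G : Type u} [Group G]

/-- A subgroup is pronormal if it contains a Sylow subgroup whose normalizer normalizes it. -/
theorem pronormal_of_normalizer_le [Finite G] {p : ℕ} [Fact p.Prime]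
    (H : Subgroup G) (P : Sylow p G) (hPH : (P : Subgroup G) ≤ H)
    (hN : Subgroup.normalizer ((P : Subgroup G) : Set G) ≤ Subgroup.normalizer (H : Set G)) :
    IsPronormal H := by
  intro g
  set X := H ⊔ H.map (MulAut.conj g).toMonoidHom with hX
  have hP : (P : Subgroup G) ≤ X := hPH.trans le_sup_left
  have hgP : ((g • P : Sylow p G) : Subgroup G) ≤ X := by
    rw [Sylow.smul_def, Sylow.pointwise_smul_def]
    refine le_trans ?_ (le_sup_right (a := H))
    rw [Subgroup.pointwise_smul_def]
    exact Subgroup.map_mono hPH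
  obtain ⟨x, hx⟩ := MulAction.exists_smul_eq X (P.subtype hP) ((g • P).subtype hgP)
  rw [Sylow.smul_subtype hP] at hx
  have hx' : (x : G) • P = g • P := Sylow.subtype_injective hx
  have hn : (x : G)⁻¹ * g ∈ Subgroup.normalizer ((P : Subgroup G) : Set G) := by
    refine Sylow.smul_eq_iff_mem_normalizer.mp ?_
    rw [mul_smul, ← hx', inv_smul_smul]
  refine ⟨x, x.2, ?_⟩
  show cj g H = cj (x : G) H
  conv_lhs => rw [show g = (x : G) * ((x : G)⁻¹ * g) by group, ← cj_cj,
    mem_normalizer_iff_cj.mp (hN hn)]

/-- A subgroup of index prime to `p` contains a conjugate of a given Sylow `p`-subgroup. -/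
theorem exists_cj_le [Finite G] {p : ℕ} [Fact p.Prime] (P : Sylow p G) (K : Subgroup G)
    (hK : ¬ p ∣ K.index) : ∃ g : G, cj g (P : Subgroup G) ≤ K := by
  obtain ⟨Q⟩ : Nonempty (Sylow p K) := Sylow.nonempty
  have hQ : IsPGroup p ((Q : Subgroup K).map K.subtype) := Q.2.map _
  obtain ⟨R, hR⟩ := hQ.exists_le_sylow
  obtain ⟨g, hg⟩ := MulAction.exists_smul_eq G P R
  refine ⟨g, ?_⟩
  have e : cj g (P : Subgroup G) = (R : Subgroup G) := by rw [← hg]; rfl
  rw [e]
  refine le_of_eq_of_le (Subgroup.eq_of_le_of_card_ge hR ?_).symm (Subgroup.map_subtype_le _)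
  rw [Subgroup.card_map_of_injective K.subtype_injective, R.card_eq_multiplicity,
    Q.card_eq_multiplicity, ← K.card_mul_index,
    Nat.factorization_mul Nat.card_pos.ne' K.index_ne_zero_of_finite, Finsupp.add_apply,
    Nat.factorization_eq_zero_of_not_dvd hK, add_zero]

/-- Reduction to the overgroups of one Sylow subgroup in a covering group. -/
theorem pronormal_of_cover {X : Type v} [Group X] [Finite X] {p : ℕ} [Fact p.Prime]
    {f : X →* G} (hf : Function.Surjective f) (P : Sylow p X)
    (hP : ∀ K : Subgroup X, (P : Subgroup X) ≤ K → f.ker ≤ K → IsPronormal K)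
    (H : Subgroup G) (hH : ¬ p ∣ H.index) : IsPronormal H := by
  have hi : ¬ p ∣ (H.comap f).index := by rwa [H.index_comap_of_surjective hf]
  obtain ⟨g, hg⟩ := exists_cj_le P _ hi
  have hker : f.ker ≤ cj g⁻¹ (H.comap f) := by
    intro k hk
    rw [mem_cj, inv_inv, Subgroup.mem_comap, map_mul, map_mul, hk, mul_one, map_inv, mul_inv_cancel]
    exact H.one_mem
  have hle : (P : Subgroup X) ≤ cj g⁻¹ (H.comap f) := by
    have := cj_mono g⁻¹ hg
    rwa [cj_inv_cj] at this
  have h2 := pronormal_cj g (hP _ hle hker)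
  rw [cj_cj_inv] at h2
  have h3 := pronormal_map hf h2
  rwa [Subgroup.map_comap_eq_self_of_surjective hf] at h3

/-- Pronormality is transported along isomorphisms. -/
theorem pronormal_of_equiv {X : Type v} [Group X] (e : X ≃* G)
    (h : ∀ K : Subgroup X, Odd K.index → IsPronormal K) (H : Subgroup G) (hH : Odd H.index) :
    IsPronormal H := by
  have h1 : Odd (H.comap e.toMonoidHom).index := by
    rwa [H.index_comap_of_surjective e.surjective]
  have h2 := pronormal_map (f := e.toMonoidHom) e.surjective (h _ h1)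
  rwa [Subgroup.map_comap_eq_self_of_surjective (f := e.toMonoidHom) e.surjective] at h2

end Cfsg.Agent.Lib.PronormalOddIndex
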