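import Mathlib
import Cfsg.Agent.Lib.PronormalOddIndex.Base
import Cfsg.Agent.Lib.PronormalOddIndex.Reduce
import Cfsg.Agent.Lib.SL2.Dickson

/-!
Subgroups of odd index of `PSL₂(q)`, `q` odd, are pronormal.
-/

set_option autoImplicit false

namespace Cfsg.Agent.Lib.PronormalOddIndex

open Cfsg.Agent.Lib.SL2 Cfsg.Agent.Lib.ConjFunctor

variable {F : Type} [Field F] [Fintype F]

theorem not_unip_of_involution (hodd : Odd (Fintype.card F)) {t : PSLtwo F} (ht : orderOf t = 2) :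
    ¬ IsUnip t :=
  fun h => not_semi_of_unip h (isSemi_of_involution (two_ne_zero_iff_odd.2 hodd) ht)

/-- A nontrivial element of odd order commuting with an involution. -/
theorem semi_of_commute (hodd : Odd (Fintype.card F)) {w t : PSLtwo F} (hw : Odd (orderOf w))
    (hw1 : w ≠ 1) (ht : orderOf t = 2) (h : t * w = w * t) : IsSemi w ∧ t ∈ torus w := by
  rcases semi_or_unip w with hs | hu
  · refine ⟨hs, mem_torus_of_commute_semi hs (fun e => hw1 ?_) h⟩
    have h2 : orderOf w ∣ 2 := orderOf_dvd_of_pow_eq_one (by rw [sq]; exact e)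
    rcases (Nat.dvd_prime Nat.prime_two).1 h2 with h1 | h1
    · exact orderOf_eq_one_iff.1 h1
    · rw [h1, Nat.odd_iff] at hw; omega
  · exfalso
    have htw := mem_torus_of_commute_unip hu h
    have hm : IsMember ⊤ (torus w) := ⟨w, Subgroup.mem_top _, hw1, (inf_top_eq _).symm⟩
    rcases semiMember_or_unipMember hm with hh | hh
    · exact not_semi_of_unip hu (hh.2 w (mem_torus_self w) hw1)
    · exact not_unip_of_involution hodd ht (hh.2 t htw)

/-- Two distinct involutions do not lie in one semisimple torus. -/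
theorem false_of_two_involutions {x t t' : PSLtwo F} (hx : IsSemi x) (ht : orderOf t = 2)
    (ht' : orderOf t' = 2) (hne : t ≠ t') (h : t ∈ torus x) (h' : t' ∈ torus x) : False := by
  classical
  haveI := isCyclic_torus_semi hx
  haveI := Fintype.ofFinite (torus x)
  have hcard := IsCyclic.card_pow_eq_one_le (α := torus x) (n := 2) two_pos
  have hsub : ({1, ⟨t, h⟩, ⟨t', h'⟩} : Finset (torus x)) ⊆ Finset.univ.filter fun a => a ^ 2 = 1 := by
    intro a ha
    simp only [Finset.mem_insert, Finset.mem_singleton] at ha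
    simp only [Finset.mem_filter, Finset.mem_univ, true_and]
    rcases ha with rfl | rfl | rfl
    · exact one_pow 2
    · exact Subtype.ext (by simpa [ht] using pow_orderOf_eq_one t)
    · exact Subtype.ext (by simpa [ht'] using pow_orderOf_eq_one t')
  have h3 : ({1, ⟨t, h⟩, ⟨t', h'⟩} : Finset (torus x)).card = 3 := by
    rw [Finset.card_eq_three]
    refine ⟨1, ⟨t, h⟩, ⟨t', h'⟩, ?_, ?_, ?_, rfl⟩
    · intro e; have := congrArg Subtype.val e; simp at this; rw [← this, orderOf_one] at ht; omega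
    · intro e; have := congrArg Subtype.val e; simp at this; rw [← this, orderOf_one] at ht'; omega
    · exact fun e => hne (congrArg Subtype.val e)
  have := (Finset.card_le_card hsub).trans hcard
  omega

theorem commuting_involutions_not_borel (hodd : Odd (Fintype.card F)) {T T' : SLtwo F}
    (ht : orderOf (proj T) = 2) (ht' : orderOf (proj T') = 2) (htt : orderOf (proj (T * T')) = 2)
    (h : T 1 0 = 0) (h' : T' 1 0 = 0) : False := by
  have h2 : (2 : F) ≠ 0 := two_ne_zero_iff_odd.2 hodd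
  have key : ∀ U : SLtwo F, orderOf (proj U) = 2 → U 1 0 = 0 → U 0 0 * U 0 0 = -1 := by
    intro U hU hU0
    have hne : proj U ≠ 1 := fun e => by rw [e, orderOf_one] at hU; omega
    have hsq : proj (U * U) = 1 := by
      rw [map_mul, ← sq]
      have := pow_orderOf_eq_one (proj U); rwa [hU] at this
    rcases (mem_center_iff_eq _).1 (proj_eq_one_iff.1 hsq) with e | e
    · exact absurd (proj_eq_one_iff.2 (mem_center_of_mul_self h2 e)) hne
    · have := congrArg (fun M : SLtwo F => M 0 0) e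
      simpa [mul_00, hU0] using this
  have e1 := key T ht h
  have e2 := key T' ht' h'
  have e3 := key _ htt (by rw [mul_10, h, h']; ring)
  rw [mul_00, h', mul_zero, add_zero] at e3
  exact h2 (by linear_combination e3 - (T' 0 0 * T' 0 0) * e1 + e2)

/-- An odd order subgroup normalized by two commuting involutions does not meet both centralizers. -/
theorem false_of_odd_invariant (hodd : Odd (Fintype.card F)) {O : Subgroup (PSLtwo F)}
    (hO : Odd (Nat.card O)) {t t' a b : PSLtwo F} (ht : orderOf t = 2) (ht' : orderOf t' = 2)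
    (htt : orderOf (t * t') = 2) (hne : t ≠ t')
    (hn : ∀ x ∈ O, t * x * t⁻¹ ∈ O) (hn' : ∀ x ∈ O, t' * x * t'⁻¹ ∈ O)
    (ha : a ∈ O) (ha1 : a ≠ 1) (hat : t * a = a * t)
    (hb : b ∈ O) (hb1 : b ≠ 1) (hbt : t' * b = b * t') : False := by
  classical
  have hoo : ∀ x ∈ O, Odd (orderOf x) := fun x hx =>
    hO.of_dvd_nat (by simpa using orderOf_dvd_natCard (⟨x, hx⟩ : O))
  obtain ⟨has, hta⟩ := semi_of_commute hodd (hoo a ha) ha1 ht hat
  obtain ⟨hbs, htb⟩ := semi_of_commute hodd (hoo b hb) hb1 ht' hbt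
  have ha2 : a * a ≠ 1 := fun e => by
    have h1 := hoo a ha
    rw [orderOf_eq_prime (by rw [sq]; exact e) ha1, Nat.odd_iff] at h1
    omega
  by_cases hab : a * b = b * a
  · have hba := mem_torus_of_commute_semi has ha2 hab.symm
    rw [torus_eq_of_mem ha1 hba hb1] at htb
    exact false_of_two_involutions has ht ht' hne hta htb
  obtain ⟨p, _⟩ := CharP.exists F
  haveI : Fact p.Prime := ⟨CharP.char_is_prime F p⟩
  rcases dickson p O with h | ⟨A, -, -, h⟩ | ⟨x, hx, hx1, hle⟩ | h | ⟨K, δ, -, h⟩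
  · exact ha1 (by rw [h] at ha; exact Subgroup.mem_bot.1 ha)
  · rcases h with ⟨hc, -⟩ | ⟨⟨e⟩⟩
    · haveI := hc
      letI := IsCyclic.commGroup (α := O)
      exact hab (congrArg Subtype.val (mul_comm (⟨a, ha⟩ : O) ⟨b, hb⟩))
    · rw [Nat.card_congr e.toEquiv, DihedralGroup.nat_card, Nat.odd_iff] at hO
      omega
  · -- inside a Borel subgroup
    obtain ⟨g, rfl, hg⟩ := hx
    obtain ⟨m, c, hm⟩ := exists_conj_upper hg
    have hc : c ≠ 0 := by
      rintro rfl
      rw [upper_zero] at hm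
      exact hx1 (by rw [conj_eq_one_iff.1 hm, map_one])
    set ξ : PSLtwo F := proj (upper c) with hξ
    set M : PSLtwo F := proj m with hM
    have hξM : ξ = M * proj g * M⁻¹ := by rw [hξ, ← hm, map_mul, map_mul, map_inv]
    have hnorm : ∀ U : SLtwo F, proj U * ξ * (proj U)⁻¹ ∈ torus ξ → U 1 0 = 0 := fun U hU => by
      rw [hξ, ← map_inv, ← map_mul, ← map_mul, proj_mem_torus_iff] at hU
      exact (normalizer_upper_iff hc).1 hU
    have hNl : ∀ n, n * proj g * n⁻¹ ∈ torus (proj g) → ∀ U : SLtwo F,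
        proj U = M * n * M⁻¹ → U 1 0 = 0 := fun n hn U hU => hnorm U (by
      rw [hU, hξM, show M * n * M⁻¹ * (M * proj g * M⁻¹) * (M * n * M⁻¹)⁻¹ =
        M * (n * proj g * n⁻¹) * M⁻¹ by group, conj_mem_torus_conj_iff]
      exact hn)
    have hOn : ∀ y ∈ O, y * proj g * y⁻¹ ∈ torus (proj g) := fun y hy =>
      (Subgroup.mem_normalizer_iff.1 (hle hy) _).1 (mem_torus_self _)
    obtain ⟨A, hA⟩ := proj_surjective (M * a * M⁻¹)
    obtain ⟨B, hB⟩ := proj_surjective (M * b * M⁻¹)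
    have hA0 := hNl a (hOn a ha) A hA
    have hB0 := hNl b (hOn b hb) B hB
    set k := a * b * a⁻¹ * b⁻¹ with hk
    have hkO : k ∈ O := mul_mem (mul_mem (mul_mem ha hb) (inv_mem ha)) (inv_mem hb)
    have hk1 : k ≠ 1 := fun e => hab (by
      rw [hk, mul_inv_eq_one, mul_inv_eq_iff_eq_mul] at e; exact e)
    have hC : proj (A * B * A⁻¹ * B⁻¹) = M * k * M⁻¹ := by
      rw [map_mul, map_mul, map_mul, map_inv, map_inv, hA, hB, hk]; group
    set C := A * B * A⁻¹ * B⁻¹ with hCdef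
    have hC10 : C 1 0 = 0 := hNl k (hOn k hkO) C hC
    have hA00 := det_entries A
    have hB00 := det_entries B
    rw [hA0, mul_zero, sub_zero] at hA00
    rw [hB0, mul_zero, sub_zero] at hB00
    have hC00 : C 0 0 = 1 := by
      simp only [hCdef, mul_00, mul_01, mul_10, mul_11, inv_00, inv_10, inv_01, inv_11, hA0, hB0]
      linear_combination (B 0 0 * B 1 1) * hA00 + hB00
    have hC11 : C 1 1 = 1 := by
      have := det_entries C
      rw [hC10, mul_zero, sub_zero, hC00, one_mul] at this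
      exact this
    have hkξ : M * k * M⁻¹ ∈ torus ξ := by
      rw [← hC, hξ, proj_mem_torus_iff, centralizer_upper_iff hc]
      exact ⟨hC10, hC00.trans hC11.symm⟩
    rw [hξM, conj_mem_torus_conj_iff] at hkξ
    have htork : torus k = torus (proj g) := torus_eq_of_mem hx1 hkξ hk1
    have hkU : IsUnip k := by
      have h1 : IsUnip (M * k * M⁻¹) := ⟨C, hC, by rw [tr, hC00, hC11]; norm_num⟩
      have h2 := isUnip_conj h1 M⁻¹
      simpa [mul_assoc] using h2
    have hnt : ∀ u : PSLtwo F, (∀ x ∈ O, u * x * u⁻¹ ∈ O) → u * proj g * u⁻¹ ∈ torus (proj g) := by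
      intro u hu
      set k' := u * k * u⁻¹ with hk'
      have hk'O : k' ∈ O := hu k hkO
      have hk'1 : k' ≠ 1 := fun e => hk1 (conj_eq_one_iff.1 e)
      obtain ⟨D, hD, hDt⟩ := isUnip_conj (isUnip_conj hkU u) M
      have hD0 := hNl k' (hOn k' hk'O) D hD
      have hd := det_entries D
      rw [hD0, mul_zero, sub_zero] at hd
      have hdd : D 0 0 = D 1 1 := by
        rw [tr] at hDt
        have h0 : (D 0 0 - 1) * (D 0 0 - 1) = 0 := by linear_combination D 0 0 * hDt - hd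
        have := sub_eq_zero.1 (mul_self_eq_zero.1 h0)
        linear_combination 2 * this - hDt
      have hk'g : k' ∈ torus (proj g) := by
        rw [← conj_mem_torus_conj_iff (n := M), ← hξM, hk', ← hD, hξ, proj_mem_torus_iff,
          centralizer_upper_iff hc]
        exact ⟨hD0, hdd⟩
      have he : torus k' = torus (proj g) := torus_eq_of_mem hx1 hk'g hk'1
      have : u * proj g * u⁻¹ ∈ torus (u * k * u⁻¹) := by
        rw [conj_mem_torus_conj_iff, htork]; exact mem_torus_self _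
      rwa [he] at this
    obtain ⟨T, hT⟩ := proj_surjective (M * t * M⁻¹)
    obtain ⟨T', hT'⟩ := proj_surjective (M * t' * M⁻¹)
    have ho : ∀ s : PSLtwo F, orderOf (M * s * M⁻¹) = orderOf s := fun s =>
      (MulAut.conj M).orderOf_eq s
    refine commuting_involutions_not_borel hodd (by rw [hT, ho, ht]) (by rw [hT', ho, ht'])
      (by rw [map_mul, hT, hT', show M * t * M⁻¹ * (M * t' * M⁻¹) = M * (t * t') * M⁻¹ by group,
        ho, htt]) (hNl t (hnt t hn) T hT) (hNl t' (hnt t' hn') T' hT')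
  · have : 2 ∣ Nat.card O := by
      rcases h with ⟨⟨e⟩⟩ | ⟨⟨e⟩⟩ | ⟨⟨e⟩⟩ <;> rw [Nat.card_congr e.toEquiv]
      · rw [nat_card_alternatingGroup, Nat.card_fin]; decide
      · rw [Nat.card_perm, Nat.card_fin]; decide
      · rw [nat_card_alternatingGroup, Nat.card_fin]; decide
    rw [Nat.odd_iff] at hO
    omega
  · have hKF : (2 : K) ≠ 0 := fun e => two_ne_zero_iff_odd.2 hodd (congrArg Subtype.val e)
    set z : Matrix.ProjGenLinGroup (Fin 2) F := slMap K weyl with hz
    have hz1 : z ≠ 1 := by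
      intro e
      have h1 : Matrix.SpecialLinearGroup.toGL (weyl : SLtwo K) ∈ (glMap K).ker := e
      rw [ker_glMap] at h1
      have h2 := congrArg (fun M : GL (Fin 2) K => M 0 0)
        (Subgroup.mem_center_iff.1 h1 (Matrix.SpecialLinearGroup.toGL (upper (1 : K))))
      rw [Matrix.GeneralLinearGroup.coe_mul, Matrix.GeneralLinearGroup.coe_mul,
        Matrix.SpecialLinearGroup.coe_GL_coe_matrix, Matrix.SpecialLinearGroup.coe_GL_coe_matrix] at h2
      simp [weyl, upper, ofEntries] at h2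
    have hz2 : z ^ 2 = 1 := by
      rw [hz, ← map_pow, sq, weyl_mul_weyl]
      show Matrix.SpecialLinearGroup.toGL (-1 : SLtwo K) ∈ (glMap K).ker
      rw [ker_glMap, Subgroup.mem_center_iff]
      intro g
      exact Units.ext (by simp)
    have hd : 2 ∣ Nat.card (O.map Matrix.ProjectiveSpecialLinearGroup.toPGL) := by
      have hzmem : ∀ N : Subgroup (Matrix.ProjGenLinGroup (Fin 2) F), z ∈ N →
          2 ∣ Nat.card (N.map (MulAut.conj δ).toMonoidHom) := fun N hN => by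
        have := orderOf_dvd_natCard (⟨z, hN⟩ : N)
        rw [Subgroup.orderOf_mk, orderOf_eq_prime hz2 hz1] at this
        rwa [Subgroup.card_map_of_injective (MulAut.conj δ).injective]
      rcases h with h | h <;> rw [h]
      · exact hzmem _ ⟨_, rfl⟩
      · exact hzmem _ ⟨_, rfl⟩
    have hd2 := hd.trans (Subgroup.card_map_dvd O _)
    rw [Nat.odd_iff] at hO
    omega

theorem two_element_mem {G : Type*} [Group G] [Finite G] (P : Sylow 2 G) {g : G} {k : ℕ}
    (hg : g ∈ Subgroup.normalizer ((P : Subgroup G) : Set G)) (h : g ^ 2 ^ k = 1) :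
    g ∈ (P : Subgroup G) := by
  haveI : Fact (Nat.Prime 2) := ⟨Nat.prime_two⟩
  have hp : IsPGroup 2 (Subgroup.zpowers g) := by
    obtain ⟨i, -, hi⟩ := (Nat.dvd_prime_pow Nat.prime_two).1 (orderOf_dvd_of_pow_eq_one h)
    exact IsPGroup.of_card (n := i) (by rw [Nat.card_zpowers, hi])
  have h2 := hp.to_sup_of_normal_right' P.2 (Subgroup.zpowers_le.2 hg)
  exact (le_sup_left.trans (le_of_eq (P.3 h2 le_sup_right))) (Subgroup.mem_zpowers g)

theorem eq_of_card_four {G : Type*} [Group G] [Finite G] (P : Subgroup G) (h4 : Nat.card P = 4)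
    {t s y : G} (ht : t ∈ P) (hs : s ∈ P) (hy : y ∈ P) (hs2 : s * s = 1) (ht1 : t ≠ 1) (hs1 : s ≠ 1)
    (hst : s ≠ t) : y = 1 ∨ y = t ∨ y = s ∨ y = t * s := by
  classical
  haveI := Fintype.ofFinite G
  by_contra hc
  push Not at hc
  obtain ⟨c1, c2, c3, c4⟩ := hc
  have n1 : t * s ≠ 1 := fun e => hst (mul_right_cancel (e.trans hs2.symm)).symm
  have n2 : t * s ≠ t := fun e => hs1 (mul_eq_left.1 e)
  have n3 : t * s ≠ s := fun e => ht1 (mul_eq_right.1 e)
  have hsubset : ({1, t, s, t * s, y} : Finset G) ⊆ Finset.univ.filter (· ∈ P) := by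
    intro z hz
    simp only [Finset.mem_insert, Finset.mem_singleton] at hz
    simp only [Finset.mem_filter, Finset.mem_univ, true_and]
    rcases hz with rfl | rfl | rfl | rfl | rfl
    exacts [one_mem _, ht, hs, mul_mem ht hs, hy]
  have h5 : ({1, t, s, t * s, y} : Finset G).card = 5 := by
    simp [Ne.symm ht1, Ne.symm hs1, Ne.symm n1, Ne.symm c1, Ne.symm hst, Ne.symm n2, Ne.symm c2,
      Ne.symm n3, Ne.symm c3, Ne.symm c4]
  have := Finset.card_le_card hsubset
  rw [h5, ← Fintype.card_subtype, ← Nat.card_eq_fintype_card] at this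
  exact absurd this (by rw [show Nat.card {x // x ∈ P} = 4 from h4]; omega)

theorem card_map_proj (h2 : (2 : F) ≠ 0) {K : Subgroup (SLtwo F)}
    (hK : Subgroup.center (SLtwo F) ≤ K) : 2 * Nat.card (K.map proj) = Nat.card K := by
  have h := Subgroup.relIndex_mul_relIndex ⊥ (Subgroup.center (SLtwo F)) K bot_le hK
  rw [Subgroup.relIndex_bot_left, Subgroup.relIndex_bot_left, card_center_odd h2] at h
  rw [← h, ← Subgroup.relIndex_ker, QuotientGroup.ker_mk']

/-- Only `P` centralises a four subgroup `P` inside its normalizer. -/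
theorem mem_of_centralizes (hodd : Odd (Fintype.card F)) (P : Sylow 2 (PSLtwo F)) {t₁ t₂ w : PSLtwo F}
    (ho₁ : orderOf t₁ = 2) (ho₂ : orderOf t₂ = 2) (h12 : t₁ ≠ t₂)
    (hw : w ∈ Subgroup.normalizer ((P : Subgroup (PSLtwo F)) : Set (PSLtwo F)))
    (hc₁ : Commute t₁ w) (hc₂ : Commute t₂ w) : w ∈ (P : Subgroup (PSLtwo F)) := by
  obtain ⟨j, m, hm, hj⟩ := Nat.exists_eq_pow_mul_and_not_dvd (orderOf_pos w).ne' 2 (by norm_num)
  refine two_element_mem P (k := j) hw ?_
  by_contra hne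
  have ho : Odd (orderOf (w ^ 2 ^ j)) := by
    refine Odd.of_dvd_nat (Nat.not_even_iff_odd.1 fun h => hm h.two_dvd)
      (orderOf_dvd_of_pow_eq_one ?_)
    rw [← pow_mul, ← hj, pow_orderOf_eq_one]
  obtain ⟨hs, e1⟩ := semi_of_commute hodd ho hne ho₁ (hc₁.pow_right _).eq
  obtain ⟨-, e2⟩ := semi_of_commute hodd ho hne ho₂ (hc₂.pow_right _).eq
  exact false_of_two_involutions hs ho₁ ho₂ h12 e1 e2

/-- In the normalizer of a four Sylow subgroup, only `P` fixes an involution of `P`. -/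
theorem mem_of_fixes (hodd : Odd (Fintype.card F)) (P : Sylow 2 (PSLtwo F))
    (h4 : Nat.card (P : Subgroup (PSLtwo F)) = 4)
    (hinv : ∀ t ∈ (P : Subgroup (PSLtwo F)), t ≠ 1 → orderOf t = 2)
    {g t : PSLtwo F} (hg : g ∈ Subgroup.normalizer ((P : Subgroup (PSLtwo F)) : Set (PSLtwo F)))
    (ht : t ∈ (P : Subgroup (PSLtwo F))) (ht1 : t ≠ 1) (hgt : g * t * g⁻¹ = t) :
    g ∈ (P : Subgroup (PSLtwo F)) := by
  have sq1 : ∀ x ∈ (P : Subgroup (PSLtwo F)), x * x = 1 := fun x hx => by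
    rcases eq_or_ne x 1 with rfl | hx1
    · exact one_mul 1
    · have := pow_orderOf_eq_one x; rwa [hinv x hx hx1, sq] at this
  obtain ⟨s, hs, hs1, hst⟩ : ∃ s ∈ (P : Subgroup (PSLtwo F)), s ≠ 1 ∧ s ≠ t := by
    by_contra hc
    push Not at hc
    have hle : (P : Subgroup (PSLtwo F)) ≤ Subgroup.zpowers t := fun x hx => by
      rcases eq_or_ne x 1 with rfl | hx1
      · exact one_mem _
      · rw [hc x hx hx1]; exact Subgroup.mem_zpowers t
    have := Subgroup.card_le_of_le hle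
    rw [h4, Nat.card_zpowers, hinv t ht ht1] at this
    omega
  have hgg : g * g * s * (g * g)⁻¹ = s := by
    have hs' : g * s * g⁻¹ ∈ (P : Subgroup (PSLtwo F)) := (Subgroup.mem_normalizer_iff.1 hg s).1 hs
    rw [show g * g * s * (g * g)⁻¹ = g * (g * s * g⁻¹) * g⁻¹ by group]
    rcases eq_of_card_four _ h4 ht hs hs' (sq1 s hs) ht1 hs1 hst with e | e | e | e
    · exact absurd (conj_eq_one_iff.1 e) hs1
    · exact absurd (mul_left_cancel (mul_right_cancel (e.trans hgt.symm))) hst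
    · rw [e, e]
    · rw [e, show g * (t * s) * g⁻¹ = g * t * g⁻¹ * (g * s * g⁻¹) by group, hgt, e, ← mul_assoc,
        sq1 t ht, one_mul]
  have hgg' : g * g * t * (g * g)⁻¹ = t := by
    rw [show g * g * t * (g * g)⁻¹ = g * (g * t * g⁻¹) * g⁻¹ by group, hgt, hgt]
  have hsq := mem_of_centralizes hodd P (hinv t ht ht1) (hinv s hs hs1) hst.symm (mul_mem hg hg)
    (mul_inv_eq_iff_eq_mul.1 hgg').symm (mul_inv_eq_iff_eq_mul.1 hgg).symm
  obtain ⟨k, hk⟩ := P.2 ⟨g * g, hsq⟩
  refine two_element_mem P (k := k + 1) hg ?_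
  have hk' : (g * g) ^ 2 ^ k = 1 := congrArg Subtype.val hk
  rwa [pow_succ', pow_mul, sq]

/-- Burnside's transfer argument: no fusion in `⟨K, gKg⁻¹⟩` forces `K` to be `P`. -/
theorem le_sylow_of_no_fusion (hodd : Odd (Fintype.card F)) (P : Sylow 2 (PSLtwo F))
    (hinv : ∀ t ∈ (P : Subgroup (PSLtwo F)), t ≠ 1 → orderOf t = 2)
    (hcomm : ∀ t ∈ (P : Subgroup (PSLtwo F)), ∀ t' ∈ (P : Subgroup (PSLtwo F)), t * t' = t' * t)
    {t₁ t₂ : PSLtwo F} (ht₁ : t₁ ∈ (P : Subgroup (PSLtwo F)))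
    (ht₂ : t₂ ∈ (P : Subgroup (PSLtwo F))) (h11 : t₁ ≠ 1) (h21 : t₂ ≠ 1) (h12 : t₁ ≠ t₂)
    {g : PSLtwo F} (hg : g ∈ Subgroup.normalizer ((P : Subgroup (PSLtwo F)) : Set (PSLtwo F)))
    (hmove : ∀ t ∈ (P : Subgroup (PSLtwo F)), t ≠ 1 → g * t * g⁻¹ ≠ t)
    {K : Subgroup (PSLtwo F)} (hK : (P : Subgroup (PSLtwo F)) ≤ K)
    (hJN : ∀ n ∈ K ⊔ cj g K,
      n ∈ Subgroup.normalizer ((P : Subgroup (PSLtwo F)) : Set (PSLtwo F)) →
        n ∈ (P : Subgroup (PSLtwo F))) : K ≤ (P : Subgroup (PSLtwo F)) := by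
  classical
  haveI : Fact (Nat.Prime 2) := ⟨Nat.prime_two⟩
  set J := K ⊔ cj g K with hJdef
  have hPJ : (P : Subgroup (PSLtwo F)) ≤ J := hK.trans le_sup_left
  set PJ : Sylow 2 J := P.subtype hPJ with hPJdef
  have hle : Subgroup.normalizer ((PJ : Subgroup J) : Set J) ≤
      Subgroup.centralizer ((PJ : Subgroup J) : Set J) := by
    intro n hn
    have hnP : (n : PSLtwo F) ∈ (P : Subgroup (PSLtwo F)) := hJN n n.2 (by
      refine mem_normalizer_of_forall fun y hy => ?_
      have := (Subgroup.mem_normalizer_iff.1 hn ⟨y, hPJ hy⟩).1 (by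
        simpa [hPJdef, Sylow.coe_subtype, Subgroup.mem_subgroupOf] using hy)
      simpa [hPJdef, Sylow.coe_subtype, Subgroup.mem_subgroupOf] using this)
    intro y hy
    refine Subtype.ext (hcomm _ ?_ _ hnP)
    simpa [hPJdef, Sylow.coe_subtype, Subgroup.mem_subgroupOf] using hy
  obtain ⟨V, hVn, hcompl, hVodd, hVmem⟩ : ∃ V : Subgroup J, V.Normal ∧
      Subgroup.IsComplement' V (PJ : Subgroup J) ∧ Odd (Nat.card V) ∧
      ∀ z : J, ∀ m : ℕ, Odd m → z ^ m = 1 → z ∈ V := by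
    refine ⟨(MonoidHom.transferSylow PJ hle).ker, MonoidHom.normal_ker _,
      MonoidHom.ker_transferSylow_isComplement' PJ hle,
      Nat.not_even_iff_odd.1 fun h => MonoidHom.not_dvd_card_ker_transferSylow PJ hle h.two_dvd,
      fun z m hm hz => ?_⟩
    rw [MonoidHom.mem_ker]
    obtain ⟨j, hj⟩ := PJ.2 (MonoidHom.transferSylow PJ hle z)
    exact eq_one_of_pow_two_odd hj (by rw [← map_pow, hz, map_one]) hm
  set O : Subgroup (PSLtwo F) := V.map J.subtype with hOdef
  have hOodd : Odd (Nat.card O) := by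
    rwa [hOdef, Subgroup.card_map_of_injective J.subtype_injective]
  have hOn : ∀ y ∈ J, ∀ x ∈ O, y * x * y⁻¹ ∈ O := by
    rintro y hy _ ⟨v, hv, rfl⟩
    exact ⟨⟨y, hy⟩ * v * ⟨y, hy⟩⁻¹, hVn.conj_mem v hv _, rfl⟩
  have hW : ∀ w ∈ O, w ∈ K → w = 1 := by
    by_contra hc
    push Not at hc
    obtain ⟨w, hwO, hwK, hw1⟩ := hc
    have hnfix : ∀ t ∈ (P : Subgroup (PSLtwo F)), t ≠ 1 →
        ∀ y ∈ O, y ∈ K → t * y = y * t → y = 1 := by
      intro t ht ht1 y hy hyK hty
      by_contra hy1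
      have hgt : g * t * g⁻¹ ∈ (P : Subgroup (PSLtwo F)) :=
        (Subgroup.mem_normalizer_iff.1 hg t).1 ht
      have hgt1 : g * t * g⁻¹ ≠ 1 := fun e => ht1 (conj_eq_one_iff.1 e)
      have hne : t ≠ g * t * g⁻¹ := fun e => hmove t ht ht1 e.symm
      have hbJ : g * y * g⁻¹ ∈ J := Subgroup.mem_sup_right ⟨y, hyK, rfl⟩
      have hbO : g * y * g⁻¹ ∈ O := by
        refine ⟨⟨_, hbJ⟩, hVmem _ (orderOf y)
          (hOodd.of_dvd_nat (Subgroup.orderOf_dvd_natCard O hy)) (Subtype.ext ?_), rfl⟩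
        rw [SubmonoidClass.coe_pow, conj_pow, pow_orderOf_eq_one, mul_one, mul_inv_cancel,
          OneMemClass.coe_one]
      have hcy : g * t * g⁻¹ * (g * y * g⁻¹) = g * y * g⁻¹ * (g * t * g⁻¹) := by
        calc g * t * g⁻¹ * (g * y * g⁻¹) = g * (t * y) * g⁻¹ := by group
          _ = g * y * g⁻¹ * (g * t * g⁻¹) := by rw [hty]; group
      have hprod : t * (g * t * g⁻¹) ≠ 1 := fun e => hne (by
        have h1 := pow_orderOf_eq_one (g * t * g⁻¹)
        rw [hinv _ hgt hgt1, sq] at h1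
        exact mul_right_cancel (e.trans h1.symm))
      exact false_of_odd_invariant hodd hOodd (hinv t ht ht1) (hinv _ hgt hgt1)
        (hinv _ (mul_mem ht hgt) hprod) hne (hOn t (hPJ ht)) (hOn _ (hPJ hgt)) hy hy1 hty
        hbO (fun e => hy1 (conj_eq_one_iff.1 e)) hcy
    -- each involution inverts `O ⊓ K`
    have hinvert : ∀ t ∈ (P : Subgroup (PSLtwo F)), t ≠ 1 → ∀ y ∈ O ⊓ K, t * y * t⁻¹ = y⁻¹ := by
      intro t ht ht1 y hy
      have htt : t * t = 1 := by
        have := pow_orderOf_eq_one t; rwa [hinv t ht ht1, sq] at this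
      have hW' : ∀ z ∈ O ⊓ K, t * z * t⁻¹ ∈ O ⊓ K := fun z hz =>
        ⟨hOn t (hPJ ht) z hz.1, K.mul_mem (K.mul_mem (hK ht) hz.2) (K.inv_mem (hK ht))⟩
      let f : ↥(O ⊓ K) → ↥(O ⊓ K) := fun z =>
        ⟨(z : PSLtwo F)⁻¹ * (t * z * t⁻¹), mul_mem (inv_mem z.2) (hW' z z.2)⟩
      have hinj : Function.Injective f := by
        rintro ⟨z, hzm⟩ ⟨z', hzm'⟩ e
        have e' : z⁻¹ * (t * z * t⁻¹) = z'⁻¹ * (t * z' * t⁻¹) := congrArg Subtype.val e
        have hz : t * (z' * z⁻¹) = z' * z⁻¹ * t := by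
          have e2 : t * z * t⁻¹ = z * z'⁻¹ * (t * z' * t⁻¹) := by
            rw [mul_assoc z, ← e', mul_inv_cancel_left]
          calc t * (z' * z⁻¹) = t * z' * t⁻¹ * (t * z * t⁻¹)⁻¹ * t := by group
            _ = _ := by rw [e2]; group
        exact Subtype.ext (mul_inv_eq_one.1 (hnfix t ht ht1 _
          (mul_mem hzm'.1 (inv_mem hzm.1)) (mul_mem hzm'.2 (inv_mem hzm.2)) hz)).symm
      obtain ⟨⟨z, hzm⟩, hz⟩ := (Finite.injective_iff_surjective.1 hinj) ⟨y, hy⟩
      have hz' : z⁻¹ * (t * z * t⁻¹) = y := congrArg Subtype.val hz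
      have hti : t⁻¹ = t := inv_eq_of_mul_eq_one_right htt
      rw [← hz']
      calc t * (z⁻¹ * (t * z * t⁻¹)) * t⁻¹ = t * z⁻¹ * t * z * (t * t)⁻¹ := by group
        _ = t * z⁻¹ * t⁻¹ * z := by rw [htt, inv_one, mul_one, hti]
        _ = _ := by group
    have h3 : t₁ * t₂ ≠ 1 := fun e => h12 (by
      have h1 := pow_orderOf_eq_one t₂
      rw [hinv _ ht₂ h21, sq] at h1
      exact mul_right_cancel (e.trans h1.symm))
    have ea := hinvert t₁ ht₁ h11 w ⟨hwO, hwK⟩
    have eb := hinvert t₂ ht₂ h21 w ⟨hwO, hwK⟩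
    refine hw1 (hnfix (t₁ * t₂) (mul_mem ht₁ ht₂) h3 w hwO hwK ?_)
    rw [← mul_inv_eq_iff_eq_mul,
      show t₁ * t₂ * w * (t₁ * t₂)⁻¹ = t₁ * (t₂ * w * t₂⁻¹) * t₁⁻¹ by group,
      eb, ← conj_inv, ea, inv_inv]
  intro k hk
  obtain ⟨⟨⟨v, hv⟩, ⟨q, hq⟩⟩, hvq⟩ := hcompl.2 (⟨k, Subgroup.mem_sup_left hk⟩ : J)
  have hqP : (q : PSLtwo F) ∈ (P : Subgroup (PSLtwo F)) := by
    simpa [hPJdef, Sylow.coe_subtype, Subgroup.mem_subgroupOf] using hq
  have hkvq : (v : PSLtwo F) * q = k := congrArg Subtype.val hvq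
  have hvK : (v : PSLtwo F) ∈ K := by
    rw [eq_mul_inv_of_mul_eq hkvq]; exact mul_mem hk (inv_mem (hK hqP))
  rw [← hkvq, hW (v : PSLtwo F) ⟨v, hv, rfl⟩ hvK, one_mul]
  exact hqP

/-- Subgroups of odd index in `PSL₂(q)`, `q` odd, are pronormal. -/
theorem pronormal_psl_two (hodd : Odd (Fintype.card F)) (H : Subgroup (PSLtwo F))
    (hH : Odd H.index) : IsPronormal H := by
  classical
  haveI : Fact (Nat.Prime 2) := ⟨Nat.prime_two⟩
  have h2 : (2 : F) ≠ 0 := two_ne_zero_iff_odd.2 hodd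
  have hi : ¬ 2 ∣ H.index := fun h => by rw [Nat.odd_iff] at hH; omega
  obtain ⟨S⟩ : Nonempty (Sylow 2 (SLtwo F)) := Sylow.nonempty
  obtain ⟨⟨sa, hsa, sb, hsb, hsab⟩, hN⟩ := sl2_facts hodd S
  rcases hN with hN | ⟨h24, ⟨eQ⟩⟩
  · refine pronormal_of_cover proj_surjective S (fun K hK _ => ?_) H hi
    exact pronormal_of_normalizer_le K S hK (by rw [hN]; exact hK.trans Subgroup.le_normalizer)
  set P : Sylow 2 (PSLtwo F) := S.mapSurjective proj_surjective with hP
  have hPc : (P : Subgroup (PSLtwo F)) = (S : Subgroup (SLtwo F)).map proj :=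
    Sylow.coe_mapSurjective _ _
  have hc2 : Subgroup.center (SLtwo F) ≤ (S : Subgroup (SLtwo F)) :=
    two_le_sylow_of_normal S (IsPGroup.of_card (n := 1) (by rw [card_center_odd h2, pow_one]))
  have hker : (proj (F := F)).ker ≤ (S : Subgroup (SLtwo F)) := by
    rw [QuotientGroup.ker_mk']; exact hc2
  have h4 : Nat.card (P : Subgroup (PSLtwo F)) = 4 := by
    have h8 : Nat.card (S : Subgroup (SLtwo F)) = 8 := by
      rw [Nat.card_congr eQ.toEquiv, Nat.card_eq_fintype_card, QuaternionGroup.card]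
    have := card_map_proj h2 hc2
    rw [h8, ← hPc] at this
    omega
  set N := Subgroup.normalizer ((P : Subgroup (PSLtwo F)) : Set (PSLtwo F)) with hNdef
  have hN12 : Nat.card N ∣ 12 := by
    have hcomap : N.comap proj ≤ Subgroup.normalizer ((S : Subgroup (SLtwo F)) : Set (SLtwo F)) := by
      refine le_trans (Subgroup.le_normalizer_comap proj) (le_of_eq ?_)
      rw [hPc, Subgroup.comap_map_eq_self hker]
    have hcle : Subgroup.center (SLtwo F) ≤ N.comap proj := fun z hz => by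
      rw [Subgroup.mem_comap, proj_eq_one_iff.2 hz]; exact one_mem _
    have hcm := card_map_proj h2 hcle
    rw [Subgroup.map_comap_eq_self_of_surjective proj_surjective] at hcm
    have := Subgroup.card_dvd_of_le hcomap
    rw [h24, ← hcm] at this
    exact Nat.dvd_of_mul_dvd_mul_left two_pos (this.trans (by norm_num))
  have hinv : ∀ t ∈ (P : Subgroup (PSLtwo F)), t ≠ 1 → orderOf t = 2 := by
    intro t ht ht1
    rw [hPc] at ht
    obtain ⟨s, hs, rfl⟩ := ht
    refine orderOf_eq_prime ?_ ht1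
    have h := q8_pow_four (eQ ⟨s, hs⟩)
    rw [← map_pow, ← map_one eQ, eQ.injective.eq_iff] at h
    have h' : s ^ 4 = 1 := congrArg Subtype.val h
    rw [← map_pow]
    exact proj_eq_one_iff.2 (mem_center_of_mul_self h2 (by rw [← pow_add]; exact h'))
  have hcomm : ∀ t ∈ (P : Subgroup (PSLtwo F)), ∀ t' ∈ (P : Subgroup (PSLtwo F)),
      t * t' = t' * t := by
    intro t ht t' ht'
    have key : ∀ x ∈ (P : Subgroup (PSLtwo F)), x⁻¹ = x := fun x hx => by
      rcases eq_or_ne x 1 with rfl | hx1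
      · exact inv_one
      · have := pow_orderOf_eq_one x
        rw [hinv x hx hx1, sq] at this
        exact inv_eq_of_mul_eq_one_right this
    rw [← key _ (mul_mem ht ht'), _root_.mul_inv_rev, key _ ht, key _ ht']
  obtain ⟨t₁, ht₁, t₂, ht₂, h11, h21, h12⟩ : ∃ t₁ ∈ (P : Subgroup (PSLtwo F)),
      ∃ t₂ ∈ (P : Subgroup (PSLtwo F)), t₁ ≠ 1 ∧ t₂ ≠ 1 ∧ t₁ ≠ t₂ := by
    refine ⟨proj sa, hPc ▸ Subgroup.mem_map_of_mem _ hsa, proj sb,
      hPc ▸ Subgroup.mem_map_of_mem _ hsb, fun e => hsab ?_, fun e => hsab ?_, fun e => hsab ?_⟩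
    · exact (Subgroup.mem_center_iff.1 (proj_eq_one_iff.1 e) sb).symm
    · exact Subgroup.mem_center_iff.1 (proj_eq_one_iff.1 e) sa
    · rcases proj_eq_proj_iff.1 e with rfl | rfl <;> simp
  refine pronormal_of_cover (f := MonoidHom.id _) Function.surjective_id P (fun K hK _ => ?_) H hi
  intro g₀
  -- reduce to an element of the normalizer
  set X := K ⊔ cj g₀ K
  have hPX : (P : Subgroup (PSLtwo F)) ≤ X := hK.trans le_sup_left
  obtain ⟨x, hx, g, hg, rfl⟩ : ∃ x ∈ X, ∃ g ∈ N, g₀ = x * g := by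
    have hgP : ((g₀ • P : Sylow 2 (PSLtwo F)) : Subgroup (PSLtwo F)) ≤ X :=
      (cj_mono g₀ hK).trans le_sup_right
    obtain ⟨x, hx⟩ := MulAction.exists_smul_eq X (P.subtype hPX) ((g₀ • P).subtype hgP)
    rw [Sylow.smul_subtype hPX] at hx
    have hx' : (x : PSLtwo F) • P = g₀ • P := Sylow.subtype_injective hx
    refine ⟨x, x.2, (x : PSLtwo F)⁻¹ * g₀, Sylow.smul_eq_iff_mem_normalizer.mp ?_, by group⟩
    rw [mul_smul, ← hx', inv_smul_smul]
  suffices h : ∃ y ∈ K ⊔ cj g K, cj g K = cj y K by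
    obtain ⟨y, hy, e⟩ := h
    have hsub : K ⊔ cj g K ≤ X := by
      refine sup_le le_sup_left ?_
      have h1 : cj g K = cj x⁻¹ (cj (x * g) K) := by rw [← cj_cj x g, cj_inv_cj]
      rw [h1, show X = cj x⁻¹ X from (mem_normalizer_iff_cj.mp (Subgroup.le_normalizer (inv_mem hx))).symm]
      exact cj_mono _ le_sup_right
    refine ⟨x * y, mul_mem hx (hsub hy), ?_⟩
    show cj (x * g) K = cj (x * y) K
    rw [← cj_cj, e, cj_cj]
  by_cases hgP : g ∈ (P : Subgroup (PSLtwo F))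
  · exact ⟨g, Subgroup.mem_sup_left (hK hgP), rfl⟩
  by_cases hJN : ∃ n ∈ K ⊔ cj g K, n ∈ N ∧ n ∉ (P : Subgroup (PSLtwo F))
  · obtain ⟨n, hnJ, hn, hnP⟩ := hJN
    refine ⟨g, ?_, rfl⟩
    set L : Subgroup (PSLtwo F) := (P : Subgroup (PSLtwo F)) ⊔ Subgroup.zpowers n with hL
    have hLN : L ≤ N := sup_le Subgroup.le_normalizer (Subgroup.zpowers_le.2 hn)
    have hLJ : L ≤ K ⊔ cj g K :=
      sup_le (hK.trans le_sup_left) (Subgroup.zpowers_le.2 hnJ)
    have h4L : 4 ∣ Nat.card L := h4 ▸ Subgroup.card_dvd_of_le le_sup_left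
    have hne : Nat.card L ≠ 4 := fun e => hnP (by
      have : (P : Subgroup (PSLtwo F)) = L :=
        Subgroup.eq_of_le_of_card_ge le_sup_left (by rw [e, h4])
      rw [this]
      exact (le_sup_right : Subgroup.zpowers n ≤ L) (Subgroup.mem_zpowers n))
    have hLd : Nat.card L ∣ 12 := (Subgroup.card_dvd_of_le hLN).trans hN12
    have hNd : Nat.card N ≤ 12 := Nat.le_of_dvd (by norm_num) hN12
    have hL12 : Nat.card L = 12 := by
      have hb := Nat.le_of_dvd (by norm_num) hLd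
      have hp : 0 < Nat.card L := Nat.card_pos
      obtain ⟨c, hc⟩ := h4L
      have : c = 1 ∨ c = 2 ∨ c = 3 := by omega
      rcases this with rfl | rfl | rfl
      · omega
      · rw [hc] at hLd; norm_num at hLd
      · omega
    exact hLJ ((Subgroup.eq_of_le_of_card_ge hLN (by omega)).symm ▸ hg)
  push Not at hJN
  refine ⟨1, one_mem _, ?_⟩
  have hmove : ∀ t ∈ (P : Subgroup (PSLtwo F)), t ≠ 1 → g * t * g⁻¹ ≠ t :=
    fun t ht ht1 e => hgP (mem_of_fixes hodd P h4 hinv hg ht ht1 e)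
  have hKP := le_sylow_of_no_fusion hodd P hinv hcomm ht₁ ht₂ h11 h21 h12 hg hmove hK hJN
  rw [cj_one, le_antisymm hKP hK]
  exact mem_normalizer_iff_cj.mp hg

end Cfsg.Agent.Lib.PronormalOddIndex
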