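import Mathlib
import Cfsg.Agent.Lib.PronormalOddIndex.Reduce
import Cfsg.Agent.Lib.SLBlocks.Monomial

/-!
Overgroups of the unitriangular subgroup of `SL n F` are normalized by the torus.
-/

set_option autoImplicit false
set_option linter.unusedSectionVars false

namespace Cfsg.Agent.Lib.PronormalOddIndex

open Matrix Cfsg
open Cfsg.Agent.Lib.SLBlocks Cfsg.Agent.Lib.LinGroup Cfsg.Agent.Lib.ConjFunctor

variable {F : Type} [Field F] [Fintype F] {n : ℕ}

/-- The transvection subgroup at `(i, j)` lies in `H`. -/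
def RootIn (H : Subgroup (SpecialLinearGroup (Fin n) F)) (i j : Fin n) : Prop :=
  ∀ h : i ≠ j, ∀ x : F, SpecialLinearGroup.transvection h x ∈ H

theorem rootIn_of_upper {H : Subgroup (SpecialLinearGroup (Fin n) F)} (hU : upper F n ≤ H)
    {i j : Fin n} (hij : i < j) : RootIn H i j :=
  fun _ x => hU (transvection_mem_upper hij x)

theorem eq_one_add {i j : Fin n} (x : F) (a b : Fin n) :
    Matrix.transvection i j x a b = (if a = b then 1 else 0) + if i = a ∧ j = b then x else 0 := by
  rw [Matrix.transvection, Matrix.add_apply, Matrix.one_apply, Matrix.single_apply]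

theorem mon_mul_transvection {m : SpecialLinearGroup (Fin n) F} {w : Equiv.Perm (Fin n)}
    (hm : IsMon m w) {i j : Fin n} (hij : i ≠ j) (x : F) :
    m * SpecialLinearGroup.transvection hij x =
      SpecialLinearGroup.transvection (fun h => hij (w.injective h) : w i ≠ w j)
        ((m : Matrix (Fin n) (Fin n) F) (w i) i * x / (m : Matrix (Fin n) (Fin n) F) (w j) j) * m := by
  refine Subtype.ext (Matrix.ext fun a b => ?_)
  obtain ⟨a, rfl⟩ := w.surjective a
  rw [mon_mul_apply hm, mul_mon_apply hm, coe_transvection, coe_transvection, eq_one_add, eq_one_add]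
  simp only [EmbeddingLike.apply_eq_iff_eq]
  have hne := mon_ne_zero hm j
  by_cases h : i = a ∧ j = b
  · obtain ⟨rfl, rfl⟩ := h
    simp [hij]
    field_simp
  · simp only [if_neg h, add_zero]
    by_cases hab : a = b
    · subst hab; simp
    · simp [hab]

theorem rootIn_map {H : Subgroup (SpecialLinearGroup (Fin n) F)}
    {m : SpecialLinearGroup (Fin n) F} (hmH : m ∈ H) {w : Equiv.Perm (Fin n)} (hm : IsMon m w)
    {i j : Fin n} (hij : i ≠ j) (h : RootIn H i j) : RootIn H (w i) (w j) := by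
  intro hw x
  have hi := mon_ne_zero hm i
  have hj := mon_ne_zero hm j
  have e := mon_mul_transvection hm hij
    (x * (m : Matrix (Fin n) (Fin n) F) (w j) j / (m : Matrix (Fin n) (Fin n) F) (w i) i)
  have ex : (m : Matrix (Fin n) (Fin n) F) (w i) i *
      (x * (m : Matrix (Fin n) (Fin n) F) (w j) j / (m : Matrix (Fin n) (Fin n) F) (w i) i) /
      (m : Matrix (Fin n) (Fin n) F) (w j) j = x := by field_simp
  rw [ex] at e
  have := H.mul_mem (H.mul_mem hmH (h hij (x * (m : Matrix (Fin n) (Fin n) F) (w j) j / (m : Matrix (Fin n) (Fin n) F) (w i) i))) (H.inv_mem hmH)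
  rwa [e, mul_inv_cancel_right] at this

theorem rootIn_pow {H : Subgroup (SpecialLinearGroup (Fin n) F)}
    {m : SpecialLinearGroup (Fin n) F} (hmH : m ∈ H) {w : Equiv.Perm (Fin n)} (hm : IsMon m w) :
    ∀ (k : ℕ) {i j : Fin n}, i ≠ j → RootIn H i j → RootIn H ((w ^ k) i) ((w ^ k) j)
  | 0, i, j, _, h => by simpa using h
  | k + 1, i, j, hij, h => by
    rw [pow_succ', Equiv.Perm.mul_apply, Equiv.Perm.mul_apply]
    exact rootIn_map hmH hm (fun e => hij ((w ^ k).injective e)) (rootIn_pow hmH hm k hij h)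

/-- Both root subgroups of a moved pair lie in an overgroup of the unitriangular group. -/
theorem rootIn_moved {H : Subgroup (SpecialLinearGroup (Fin n) F)} (hU : upper F n ≤ H)
    {m : SpecialLinearGroup (Fin n) F} (hmH : m ∈ H) {w : Equiv.Perm (Fin n)} (hm : IsMon m w)
    (a : Fin n) (ha : w a ≠ a) : RootIn H (w a) a ∧ RootIn H a (w a) := by
  classical
  set o := orderOf w
  have ho : 0 < o := orderOf_pos w
  have hmove : ∀ k : ℕ, w ((w ^ k) a) ≠ (w ^ k) a := fun k h => ha ((w ^ k).injective (by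
    rw [← Equiv.Perm.mul_apply, ← pow_succ, pow_succ', Equiv.Perm.mul_apply, h]))
  have hper : ∀ k : ℕ, (w ^ (k + (o - 1) * k)) a = a := fun k => by
    rw [show k + (o - 1) * k = o * k by
      rw [Nat.sub_one_mul, ← Nat.add_sub_assoc (Nat.le_mul_of_pos_left k ho)]; omega,
      pow_mul, pow_orderOf_eq_one, one_pow]; rfl
  have key : ∀ k : ℕ, (RootIn H (w ((w ^ k) a)) ((w ^ k) a) → RootIn H (w a) a) ∧
      (RootIn H ((w ^ k) a) (w ((w ^ k) a)) → RootIn H a (w a)) := by
    intro k
    have h1 : (w ^ ((o - 1) * k)) ((w ^ k) a) = a := by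
      rw [← Equiv.Perm.mul_apply, ← pow_add, Nat.add_comm]
      exact hper k
    have h2 : (w ^ ((o - 1) * k)) (w ((w ^ k) a)) = w a := by
      rw [← Equiv.Perm.mul_apply, ← pow_succ, pow_succ', Equiv.Perm.mul_apply, h1]
    constructor
    · intro h
      have := rootIn_pow hmH hm ((o - 1) * k) (hmove k) h
      rwa [h1, h2] at this
    · intro h
      have := rootIn_pow hmH hm ((o - 1) * k) (hmove k).symm h
      rwa [h1, h2] at this
  obtain ⟨M, hM, hmax⟩ := ((Finset.range o).image fun k => (w ^ k) a).exists_max_image id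
    ⟨_, Finset.mem_image_of_mem _ (Finset.mem_range.2 ho)⟩
  obtain ⟨L, hL, hmin⟩ := ((Finset.range o).image fun k => (w ^ k) a).exists_min_image id
    ⟨_, Finset.mem_image_of_mem _ (Finset.mem_range.2 ho)⟩
  simp only [Finset.mem_image, Finset.mem_range] at hM hL
  obtain ⟨k, -, rfl⟩ := hM
  obtain ⟨l, -, rfl⟩ := hL
  have hin : ∀ k : ℕ, w ((w ^ k) a) ∈ (Finset.range o).image fun k => (w ^ k) a := fun k => by
    rw [← Equiv.Perm.mul_apply, ← pow_succ', ← pow_mod_orderOf]
    exact Finset.mem_image_of_mem (fun k => (w ^ k) a) (Finset.mem_range.2 (Nat.mod_lt _ ho))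
  exact ⟨(key k).1 (rootIn_of_upper hU (lt_of_le_of_ne (hmax _ (hin k)) (hmove k))),
    (key l).2 (rootIn_of_upper hU (lt_of_le_of_ne (hmin _ (hin l)) (hmove l).symm))⟩

theorem diag2n_mem {H : Subgroup (SpecialLinearGroup (Fin n) F)} {i j : Fin n} (hij : i ≠ j)
    (h1 : RootIn H i j) (h2 : RootIn H j i) (a : F) (ha : a ≠ 0) :
    SpecialLinearGroup.diag2n hij a ha ∈ H := by
  have ht : -a ≠ 0 := neg_ne_zero.2 ha
  have e := transvection_mul_nE hij ht
  have hn : nE (F := F) hij ∈ H := H.mul_mem (H.mul_mem (h1 _ _) (h2 _ _)) (h1 _ _)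
  have hL := H.mul_mem (h1 hij (-a)) hn
  rw [e] at hL
  have := H.mul_mem (H.mul_mem (H.inv_mem (h2 hij.symm (-a)⁻¹)) hL) (H.inv_mem (h1 hij (-(-a)⁻¹)))
  simpa [mul_assoc] using this

/-- The diagonals lying in `H`. -/
def diagIn (H : Subgroup (SpecialLinearGroup (Fin n) F)) : Subgroup (Fin n → Fˣ) where
  carrier := {f | ∃ d ∈ H, (d : Matrix (Fin n) (Fin n) F) = Matrix.diagonal fun k => (f k : F)}
  one_mem' := ⟨1, H.one_mem, by simp⟩
  mul_mem' := by
    rintro f g ⟨d, hd, hd'⟩ ⟨e, he, he'⟩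
    refine ⟨d * e, H.mul_mem hd he, ?_⟩
    rw [sl_mul, hd', he', Matrix.diagonal_mul_diagonal]
    simp
  inv_mem' := by
    rintro f ⟨d, hd, hd'⟩
    refine ⟨d⁻¹, H.inv_mem hd, ?_⟩
    have h1 : ((d⁻¹ * d : SpecialLinearGroup (Fin n) F) : Matrix (Fin n) (Fin n) F) = 1 := by
      rw [inv_mul_cancel]; rfl
    rw [sl_mul, hd'] at h1
    calc ((d⁻¹ : SpecialLinearGroup (Fin n) F) : Matrix (Fin n) (Fin n) F)
        = (d⁻¹ : SpecialLinearGroup (Fin n) F) *
            (Matrix.diagonal (fun k => (f k : F)) * Matrix.diagonal fun k => ((f⁻¹) k : F)) := by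
          rw [Matrix.diagonal_mul_diagonal]; simp
      _ = _ := by rw [← Matrix.mul_assoc, h1, Matrix.one_mul]

theorem mon_diag {d : SpecialLinearGroup (Fin n) F} (hd : IsMon d 1) :
    (d : Matrix (Fin n) (Fin n) F) = Matrix.diagonal fun k => (d : Matrix (Fin n) (Fin n) F) k k :=
  Matrix.ext fun r c => by
    rcases eq_or_ne r c with rfl | hrc
    · rw [Matrix.diagonal_apply_eq]
    · rw [hd r c hrc, Matrix.diagonal_apply_ne _ hrc]

/-- Every element is upper unitriangular times monomial times upper unitriangular. -/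
theorem exists_umu [NeZero n] (g : SpecialLinearGroup (Fin n) F) :
    ∃ (w : Equiv.Perm (Fin n)) (u m v : SpecialLinearGroup (Fin n) F), IsMon m w ∧
      u ∈ upper F n ∧ v ∈ upper F n ∧ g = u * m * v := by
  obtain ⟨w, b, m, b', hm, hb, hb', rfl⟩ := exists_bruhat_SL g
  have key : ∀ b : SpecialLinearGroup (Fin n) F,
      (∀ r c, c < r → (b : Matrix (Fin n) (Fin n) F) r c = 0) →
      ∃ d : SpecialLinearGroup (Fin n) F, IsMon d 1 ∧ b * d⁻¹ ∈ upper F n ∧ d⁻¹ * b ∈ upper F n := by
    intro b hb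
    have hdet : (Matrix.diagonal fun k => (b : Matrix (Fin n) (Fin n) F) k k).det = 1 := by
      rw [Matrix.det_diagonal, ← Matrix.det_of_upperTriangular (fun r c h => hb r c h)]
      exact b.2
    set d : SpecialLinearGroup (Fin n) F := ⟨_, hdet⟩ with hd
    have hd1 : IsMon d 1 := fun r c h => Matrix.diagonal_apply_ne _ h
    have hdi : IsMon d⁻¹ 1 := by
      intro r c h
      have e := mul_mon_apply (X := d⁻¹) hd1 r c
      simp only [inv_mul_cancel, sl_one, Equiv.Perm.coe_one, id_eq] at e h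
      rw [Matrix.one_apply_ne h] at e
      exact (mul_eq_zero.1 e.symm).resolve_right (mon_ne_zero hd1 c)
    have hent : ∀ c, ((d⁻¹ : SpecialLinearGroup (Fin n) F) : Matrix (Fin n) (Fin n) F) c c *
        (b : Matrix (Fin n) (Fin n) F) c c = 1 := fun c => by
      have e := mul_mon_apply (X := d⁻¹) hd1 c c
      simp only [inv_mul_cancel, sl_one, Equiv.Perm.coe_one, id_eq, Matrix.one_apply_eq] at e
      refine (e.trans ?_).symm
      show _ * Matrix.diagonal _ c c = _
      rw [Matrix.diagonal_apply_eq]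
    refine ⟨d, hd1, fun r c => ⟨fun h => ?_, ?_⟩, fun r c => ⟨fun h => ?_, ?_⟩⟩
    · refine (mul_mon_apply hdi r c).trans (mul_eq_zero_of_left (hb r c h) _)
    · refine (mul_mon_apply hdi r r).trans ?_
      rw [mul_comm]; exact hent r
    · refine (mon_mul_apply hdi r c).trans (mul_eq_zero_of_right _ (hb r c h))
    · exact (mon_mul_apply hdi r r).trans (hent r)
  obtain ⟨d, hd, h1, -⟩ := key b hb
  obtain ⟨e, he, -, h2⟩ := key b' hb'
  refine ⟨w, b * d⁻¹, d * m * e, e⁻¹ * b', ?_, h1, h2, by group⟩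
  intro r c h
  refine (mul_mon_apply he r c).trans (mul_eq_zero_of_left ?_ _)
  exact (mon_mul_apply (g := d) (X := m) hd r c).trans (mul_eq_zero_of_right _ (hm r c h))

theorem conj_upper_of_diag {d u : SpecialLinearGroup (Fin n) F} (hd : IsMon d 1)
    (hu : u ∈ upper F n) : d * u * d⁻¹ ∈ upper F n := by
  intro r c
  have e := mon_conj_apply (X := u) hd
  constructor
  · intro h
    have := e r c
    simp only [Equiv.Perm.coe_one, id_eq] at this
    rw [(hu r c).1 h, mul_zero] at this
    exact (mul_eq_zero.1 this).resolve_right (mon_ne_zero hd c)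
  · have := e r r
    simp only [Equiv.Perm.coe_one, id_eq] at this
    rw [(hu r r).2, mul_one] at this
    exact mul_right_cancel₀ (mon_ne_zero hd r) (this.trans (one_mul _).symm)

/-- The torus normalizes every overgroup of the unitriangular group. -/
theorem torus_conj_mem [NeZero n] {H : Subgroup (SpecialLinearGroup (Fin n) F)}
    (hU : upper F n ≤ H) {t : SpecialLinearGroup (Fin n) F} (ht : IsMon t 1) {h : SpecialLinearGroup (Fin n) F}
    (hh : h ∈ H) : t * h * t⁻¹ ∈ H := by
  classical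
  obtain ⟨w, u, m, v, hm, hu, hv, rfl⟩ := exists_umu h
  have hmH : m ∈ H := by
    have := H.mul_mem (H.mul_mem (H.inv_mem (hU hu)) hh) (H.inv_mem (hU hv))
    simpa [mul_assoc] using this
  let f : Fin n → Fˣ := fun k => Units.mk0 _ (mon_ne_zero ht k)
  have hpair : ∀ a : Fin n, (Pi.mulSingle (w a) (f a) * (Pi.mulSingle a (f a))⁻¹ : Fin n → Fˣ) ∈
      diagIn H := by
    intro a
    by_cases ha : w a = a
    · rw [ha, mul_inv_cancel]; exact one_mem _
    · obtain ⟨r1, r2⟩ := rootIn_moved hU hmH hm a ha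
      refine ⟨_, diag2n_mem ha r1 r2 (f a) (f a).ne_zero, ?_⟩
      show Matrix.diagonal _ = _
      congr 1
      funext k
      by_cases h1 : k = w a
      · subst h1; simp [ha]
      · by_cases h2 : k = a
        · subst h2; simp [h1]
        · simp [h1, h2]
  have hprod : (fun k => f (w⁻¹ k)) * f⁻¹ ∈ diagIn H := by
    have := Subgroup.prod_mem (diagIn H) (t := Finset.univ) (fun a _ => hpair a)
    convert this using 1
    funext k
    rw [Finset.prod_apply]
    simp only [Pi.mul_apply, Pi.inv_apply, Finset.prod_mul_distrib, Finset.prod_inv_distrib]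
    congr 1
    · rw [Fintype.prod_eq_single (w⁻¹ k)]
      · simp
      · intro a ha
        rw [Pi.mulSingle_apply, if_neg]
        rintro rfl; exact ha (by simp)
    · rw [Fintype.prod_eq_single k]
      · simp
      · intro a ha
        rw [Pi.mulSingle_apply, if_neg (Ne.symm ha)]
  obtain ⟨c, hc, hc'⟩ := hprod
  have hcm : IsMon c 1 := fun r s h => by rw [hc']; exact Matrix.diagonal_apply_ne _ h
  have htm : t * m * t⁻¹ = c⁻¹ * m := by
    rw [eq_inv_mul_iff_mul_eq, ← mul_assoc, mul_inv_eq_iff_eq_mul]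
    refine Subtype.ext (Matrix.ext fun r s => ?_)
    obtain ⟨r, rfl⟩ := w.surjective r
    have e1 := mon_mul_apply (X := t * m) hcm (w r) s
    have e2 := mon_mul_apply (X := m) ht (w r) s
    have e3 := mul_mon_apply (X := m) ht (w r) s
    simp only [Equiv.Perm.coe_one, id_eq] at e1 e2 e3
    refine e1.trans ((congrArg (fun z => (c : Matrix (Fin n) (Fin n) F) (w r) (w r) * z) e2).trans (Eq.trans ?_ e3.symm))
    by_cases hrs : r = s
    · subst hrs
      rw [hc', Matrix.diagonal_apply_eq]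
      simp [f]
      have h0 := mon_ne_zero ht (w r)
      simp only [Equiv.Perm.coe_one, id_eq] at h0
      field_simp
    · rw [hm (w r) s (fun e => hrs (w.injective e))]
      simp
  have e : t * (u * m * v) * t⁻¹ = (t * u * t⁻¹) * (t * m * t⁻¹) * (t * v * t⁻¹) := by group
  rw [e, htm]
  exact H.mul_mem (H.mul_mem (hU (conj_upper_of_diag ht hu)) (H.mul_mem (H.inv_mem hc) hmH))
    (hU (conj_upper_of_diag ht hv))

/-- The normalizer of the unitriangular group is triangular. -/
theorem exists_of_mem_normalizer [NeZero n] {g : SpecialLinearGroup (Fin n) F}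
    (hg : g ∈ Subgroup.normalizer ((upper F n : Subgroup (SpecialLinearGroup (Fin n) F)) : Set (SpecialLinearGroup (Fin n) F))) :
    ∃ u d v : SpecialLinearGroup (Fin n) F, IsMon d 1 ∧ u ∈ upper F n ∧ v ∈ upper F n ∧ g = u * d * v := by
  obtain ⟨w, u, m, v, hm, hu, hv, rfl⟩ := exists_umu g
  have hmN : m ∈ Subgroup.normalizer ((upper F n : Subgroup (SpecialLinearGroup (Fin n) F)) : Set (SpecialLinearGroup (Fin n) F)) := by
    have := mul_mem (mul_mem (inv_mem (Subgroup.le_normalizer hu)) hg)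
      (inv_mem (Subgroup.le_normalizer hv))
    simpa [mul_assoc] using this
  have hmono : StrictMono w := by
    intro i j hij
    have h1 := (Subgroup.mem_normalizer_iff.1 hmN _).1 (transvection_mem_upper (F := F) hij 1)
    rw [mon_mul_transvection hm hij.ne, mul_inv_cancel_right] at h1
    by_contra hc
    have h2 : w j < w i := lt_of_le_of_ne (not_lt.1 hc) (fun e => hij.ne' (w.injective e))
    have h3 := (h1 (w i) (w j)).1 h2
    rw [coe_transvection, eq_one_add, if_neg h2.ne', if_pos ⟨rfl, rfl⟩, zero_add, mul_one] at h3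
    exact mon_ne_zero hm i ((div_eq_zero_iff.1 h3).resolve_right (mon_ne_zero hm j))
  have hinv : StrictMono w.symm := fun i j hij => by
    by_contra hc
    have h1 := hmono.monotone (not_lt.1 hc)
    rw [Equiv.apply_symm_apply, Equiv.apply_symm_apply] at h1
    exact absurd hij (not_lt.2 h1)
  have hw : w = 1 := Equiv.ext fun i => le_antisymm
    (by simpa using hinv.id_le (w i)) (hmono.id_le i)
  exact ⟨u, m, v, hw ▸ hm, hu, hv, rfl⟩

theorem eq_one_of_pow_two [CharP F 2] {x : F} (k : ℕ) (h : x ^ 2 ^ k = 1) : x = 1 := by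
  have h1 : (x - 1) ^ 2 ^ k = 0 := by
    rw [sub_pow_char_pow (R := F) (p := 2), h, one_pow, sub_self]
  exact sub_eq_zero.1 (pow_eq_zero_iff (by positivity) |>.1 h1)

theorem diag_eq_one [CharP F 2] {d : SpecialLinearGroup (Fin n) F} (hd : IsMon d 1) (k : ℕ)
    (h : d ^ 2 ^ k = 1) : d = 1 := by
  have h1 := congrArg (fun x : SpecialLinearGroup (Fin n) F => (x : Matrix (Fin n) (Fin n) F)) h
  simp only [sl_pow, sl_one] at h1
  rw [mon_diag hd, Matrix.diagonal_pow] at h1
  refine Subtype.ext ?_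
  rw [sl_one, mon_diag hd, ← Matrix.diagonal_one]
  congr 1
  funext r
  refine eq_one_of_pow_two k ?_
  simpa [Pi.pow_apply] using congrFun (congrFun h1 r) r

/-- In characteristic two the unitriangular group is a Sylow subgroup. -/
theorem exists_upper_sylow [NeZero n] [CharP F 2] :
    ∃ P : Sylow 2 (SpecialLinearGroup (Fin n) F), (P : Subgroup (SpecialLinearGroup (Fin n) F)) = upper F n := by
  haveI : Fact (Nat.Prime 2) := ⟨Nat.prime_two⟩
  obtain ⟨P, hP⟩ := (isPGroup_upper (F := F) (n := n) 2).exists_le_sylow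
  refine ⟨P, le_antisymm ?_ hP⟩
  by_contra hne
  have hlt : (upper F n).subgroupOf (P : Subgroup (SpecialLinearGroup (Fin n) F)) < ⊤ :=
    lt_top_iff_ne_top.2 fun h => hne (Subgroup.subgroupOf_eq_top.1 h)
  haveI := P.2.isNilpotent
  obtain ⟨x, hx, hxn⟩ := SetLike.exists_of_lt (Group.normalizerCondition_of_isNilpotent _ hlt)
  have hxN : (x : SpecialLinearGroup (Fin n) F) ∈
      Subgroup.normalizer ((upper F n : Subgroup (SpecialLinearGroup (Fin n) F)) : Set (SpecialLinearGroup (Fin n) F)) := by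
    rw [Subgroup.mem_normalizer_iff] at hx ⊢
    intro y
    constructor
    · intro hy
      exact (hx ⟨y, hP hy⟩).1 hy
    · intro hy
      have hy' : y ∈ (P : Subgroup (SpecialLinearGroup (Fin n) F)) := by
        have := mul_mem (mul_mem (inv_mem x.2) (hP hy)) x.2
        simpa [mul_assoc] using this
      exact (hx ⟨y, hy'⟩).2 hy
  obtain ⟨u, d, v, hd, hu, hv, e⟩ := exists_of_mem_normalizer hxN
  have hdP : d ∈ (P : Subgroup (SpecialLinearGroup (Fin n) F)) := by
    have := mul_mem (mul_mem (inv_mem (hP hu)) x.2) (inv_mem (hP hv))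
    rw [e] at this
    simpa [mul_assoc] using this
  obtain ⟨k, hk⟩ := P.2 ⟨d, hdP⟩
  have hd1 : d = 1 := diag_eq_one hd k (congrArg Subtype.val hk)
  apply hxn
  rw [Subgroup.mem_subgroupOf, e, hd1, mul_one]
  exact mul_mem hu hv

/-- Overgroups of a Sylow 2-subgroup of `SL n F` are pronormal in characteristic two. -/
theorem exists_sylow_even [NeZero n] [CharP F 2] :
    ∃ P : Sylow 2 (SpecialLinearGroup (Fin n) F), ∀ K : Subgroup (SpecialLinearGroup (Fin n) F),
      (P : Subgroup (SpecialLinearGroup (Fin n) F)) ≤ K → IsPronormal K := by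
  haveI : Fact (Nat.Prime 2) := ⟨Nat.prime_two⟩
  obtain ⟨P, hP⟩ := exists_upper_sylow (F := F) (n := n)
  refine ⟨P, fun K hK => pronormal_of_normalizer_le K P hK fun g hg => ?_⟩
  rw [hP] at hg hK
  obtain ⟨u, d, v, hd, hu, hv, rfl⟩ := exists_of_mem_normalizer hg
  refine mul_mem (mul_mem (Subgroup.le_normalizer (hK hu)) ?_) (Subgroup.le_normalizer (hK hv))
  refine mem_normalizer_iff_cj.mpr (Subgroup.eq_of_le_of_card_ge ?_ (le_of_eq (card_cj _ _).symm))
  intro x hx
  rw [mem_cj] at hx
  have := torus_conj_mem hK hd hx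
  simpa [mul_assoc] using this

end Cfsg.Agent.Lib.PronormalOddIndex
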