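import Mathlib
import Cfsg.Agent.Lib.PronormalOddIndex.Base

/-!
A criterion for a 2-subgroup of `GL₂` to be the base of the doubling induction.
-/

set_option autoImplicit false
set_option linter.unusedSectionVars false

namespace Cfsg.Agent.Lib.PronormalOddIndex

open Matrix

variable {F : Type} [Field F] [Fintype F]

theorem commute_of_odd_pow {G : Type*} [Group G] {h x : G} {N : ℕ} (hN : h ^ N = 1) (ho : Odd N)
    (hc : Commute (h * h) x) : Commute h x := by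
  obtain ⟨m, rfl⟩ := ho
  have e : h = (h * h) ^ (m + 1) := by
    rw [← sq, ← pow_mul, show 2 * (m + 1) = 2 * m + 1 + 1 by ring, pow_succ, hN, one_mul]
  rw [e]; exact hc.pow_left _

/-- An automorphism of odd order of a large quaternion group is trivial. -/
theorem quaternion_aut_trivial {k : ℕ} (hk : 2 ≤ k) {G : Type*} [Group G] (ψ : QuaternionGroup (2 ^ k) →* G)
    (hψ : Function.Injective ψ) {h : G} {N : ℕ} (hN : h ^ N = 1) (ho : Odd N)
    (hh : ∀ y, ∃ z, h * ψ y * h⁻¹ = ψ z) :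
    h * ψ (.a 1) = ψ (.a 1) * h ∧ h * ψ (.xa 0) = ψ (.xa 0) * h := by
  haveI : NeZero (2 ^ k) := ⟨by positivity⟩
  have hoa : orderOf (ψ (.a 1)) = 2 * 2 ^ k := by
    rw [orderOf_injective ψ hψ, QuaternionGroup.orderOf_a_one]
  have hoxa : ∀ i, orderOf (ψ (.xa i)) = 4 := fun i => by
    rw [orderOf_injective ψ hψ, QuaternionGroup.orderOf_xa]
  have h4k : 4 < 2 * 2 ^ k := by
    have : 2 ^ 2 ≤ 2 ^ k := Nat.pow_le_pow_right two_pos hk
    omega
  have hconj : ∀ j : ℕ, ∀ x, h ^ (j + 1) * x * (h ^ (j + 1))⁻¹ = h * (h ^ j * x * (h ^ j)⁻¹) * h⁻¹ :=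
    fun j x => by rw [pow_succ']; group
  obtain ⟨z, hz⟩ := hh (.a 1)
  obtain ⟨i, rfl⟩ : ∃ i, z = .a i := by
    cases z with
    | a i => exact ⟨i, rfl⟩
    | xa i =>
      exfalso
      have h1 := (MulAut.conj h).orderOf_eq (ψ (.a 1))
      rw [MulAut.conj_apply, hz, hoxa, hoa] at h1
      omega
  have hai : ∀ l : ZMod (2 * 2 ^ k), h * ψ (.a l) * h⁻¹ = ψ (.a (l * i)) := by
    intro l
    have e1 : ∀ r : ℕ, (QuaternionGroup.a i : QuaternionGroup (2 ^ k)) ^ r = .a ((r : ZMod (2 * 2 ^ k)) * i) := by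
      intro r
      induction r with
      | zero =>
        rw [pow_zero, QuaternionGroup.one_def]
        exact congrArg QuaternionGroup.a (by simp)
      | succ r ih => rw [pow_succ, ih, QuaternionGroup.a_mul_a]; congr 1; push_cast; ring
    rw [← ZMod.natCast_zmod_val l, ← QuaternionGroup.a_one_pow, map_pow, ← conj_pow, hz, ← map_pow, e1]
  have hiter : ∀ j : ℕ, h ^ j * ψ (.a 1) * (h ^ j)⁻¹ = ψ (.a (i ^ j)) := by
    intro j
    induction j with
    | zero => simp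
    | succ j ih => rw [hconj, ih, hai, pow_succ]
  have hi1 : i = 1 := by
    have h1 := hiter N
    rw [hN, one_mul, inv_one, mul_one] at h1
    have h2 : i ^ N = 1 := by
      have := hψ h1
      simp only [QuaternionGroup.a.injEq] at this
      exact this.symm
    obtain ⟨m, hm⟩ := ho
    have hiu : IsUnit i := IsUnit.of_mul_eq_one (i ^ (2 * m)) ((pow_succ' i (2 * m)).symm.trans (by rw [← hm]; exact h2))
    obtain ⟨u, rfl⟩ := hiu
    have hu : u ^ N = 1 := Units.ext (by rw [Units.val_pow_eq_pow_val, h2, Units.val_one])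
    have hcard : u ^ 2 ^ k = 1 := by
      have htot : Fintype.card (ZMod (2 * 2 ^ k))ˣ = 2 ^ k := by
        rw [ZMod.card_units_eq_totient, show 2 * 2 ^ k = 2 ^ (k + 1) by rw [pow_succ'],
          Nat.totient_prime_pow_succ Nat.prime_two]
        ring
      have h := pow_card_eq_one (x := u)
      rwa [htot] at h
    rw [eq_one_of_pow_two_odd hcard hu ⟨m, hm⟩, Units.val_one]
  subst hi1
  have hca : h * ψ (.a 1) = ψ (.a 1) * h := mul_inv_eq_iff_eq_mul.1 (by rw [hai, mul_one])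
  refine ⟨hca, ?_⟩
  obtain ⟨z, hz'⟩ := hh (.xa 0)
  obtain ⟨l, rfl⟩ : ∃ l, z = .xa l := by
    cases z with
    | xa l => exact ⟨l, rfl⟩
    | a l =>
      exfalso
      have e := hai l
      rw [mul_one, ← hz'] at e
      have h1 : ψ (.xa 0) = ψ (.a l) := by
        have := mul_left_cancel (mul_right_cancel e)
        exact this.symm.trans hz'
      exact absurd (hψ h1) (by simp)
  have hxl : ∀ r, h * ψ (.xa r) * h⁻¹ = ψ (.xa (l + r)) := fun r => by
    have e : (QuaternionGroup.xa r : QuaternionGroup (2 ^ k)) = .xa 0 * .a r := by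
      rw [QuaternionGroup.xa_mul_a, zero_add]
    rw [e, map_mul, show h * (ψ (.xa 0) * ψ (.a r)) * h⁻¹ = h * ψ (.xa 0) * h⁻¹ * (h * ψ (.a r) * h⁻¹) by group,
      hz', hai, mul_one, ← map_mul, QuaternionGroup.xa_mul_a]
  have hiter2 : ∀ j : ℕ, h ^ j * ψ (.xa 0) * (h ^ j)⁻¹ = ψ (.xa ((j : ZMod (2 * 2 ^ k)) * l)) := by
    intro j
    induction j with
    | zero => simp
    | succ j ih => rw [hconj, ih, hxl]; congr 2; push_cast; ring
  have hl : l = 0 := by
    have h1 := hiter2 N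
    rw [hN, one_mul, inv_one, mul_one] at h1
    have h2 := hψ h1
    simp only [QuaternionGroup.xa.injEq] at h2
    have hu : IsUnit (N : ZMod (2 * 2 ^ k)) := by
      rw [ZMod.isUnit_iff_coprime]
      exact Nat.Coprime.mul_right (Nat.coprime_two_right.2 ho)
        (Nat.Coprime.pow_right _ (Nat.coprime_two_right.2 ho))
    exact hu.mul_right_eq_zero.1 h2.symm
  subst hl
  exact mul_inv_eq_iff_eq_mul.1 hz'

/-- The criterion. -/
theorem good_two_of (h2 : (2 : F) ≠ 0) {T : Subgroup (GL (Fin 2) F)} (hp : IsPGroup 2 T)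
    (hneg : (-1 : GL (Fin 2) F) ∈ T) {k : ℕ} (hk : 1 ≤ k)
    (e : detOne T ≃* QuaternionGroup (2 ^ k)) {τ : GL (Fin 2) F} (hτ : τ ∈ T)
    (hτd : ∀ c : Fˣ, GeneralLinearGroup.scalar (Fin 2) c ∈ T → c * c ≠ GeneralLinearGroup.det τ) :
    Good T := by
  classical
  set D := detOne T with hD
  let ψ : QuaternionGroup (2 ^ k) →* GL (Fin 2) F := D.subtype.comp e.symm.toMonoidHom
  have hψ : Function.Injective ψ := Subtype.val_injective.comp e.symm.injective
  have hψD : ∀ y, ψ y ∈ D := fun y => (e.symm y).2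
  have tr' : ∀ x ∈ D, ∃ u, ψ u = x := fun x hx => ⟨e ⟨x, hx⟩, by simp [ψ]⟩
  have hab' : ψ (.a 1) * ψ (.xa 0) ≠ ψ (.xa 0) * ψ (.a 1) := by
    rw [← map_mul, ← map_mul]
    intro h
    have h' := hψ h
    rw [QuaternionGroup.a_mul_xa, QuaternionGroup.xa_mul_a] at h'
    simp only [QuaternionGroup.xa.injEq, zero_sub, zero_add] at h'
    have h3 : ((2 : ℕ) : ZMod (2 * 2 ^ k)) = 0 := by push_cast; linear_combination -h'
    have := Nat.le_of_dvd two_pos ((ZMod.natCast_eq_zero_iff _ _).1 h3)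
    have : 2 ^ 1 ≤ 2 ^ k := Nat.pow_le_pow_right two_pos hk
    omega
  refine ⟨hp, fun g hg ho => ?_, fun g hg => isScal_of_commute hab' (hg _ (hψD _)) (hg _ (hψD _)),
    ⟨ψ (.a 1), hψD _, fun h1 => ?_⟩, hneg⟩
  swap
  · haveI : NeZero (2 ^ k) := ⟨by positivity⟩
    rw [← map_mul, ← map_one ψ] at h1
    have := orderOf_dvd_of_pow_eq_one (show (QuaternionGroup.a 1 : QuaternionGroup (2 ^ k)) ^ 2 = 1 by
      rw [sq]; exact hψ h1)
    rw [QuaternionGroup.orderOf_a_one] at this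
    have := Nat.le_of_dvd two_pos this
    have : 2 ^ 1 ≤ 2 ^ k := Nat.pow_le_pow_right two_pos hk
    omega
  -- normalise the determinant
  obtain ⟨m, hm⟩ := ho
  set ε : Fˣ := GeneralLinearGroup.det g ^ (m + 1) with hε
  have hδ : GeneralLinearGroup.det g ^ (2 * m + 1) = 1 := by
    rw [← map_pow, ← hm, pow_orderOf_eq_one, map_one]
  set z : GL (Fin 2) F := GeneralLinearGroup.scalar (Fin 2) ε⁻¹ with hz
  have hzs : IsScal z := isScal_scalar ε⁻¹
  set H := g * z with hH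
  have hN : H ^ (2 * m + 1) = 1 := by
    rw [hH, Commute.mul_pow (hzs.comm g).symm, ← hm, pow_orderOf_eq_one, one_mul, hm, hz, ← map_pow,
      inv_pow, hε, ← pow_mul, mul_comm, pow_mul, hδ, one_pow, inv_one, map_one]
  have hnT : H ∈ Subgroup.normalizer (T : Set (GL (Fin 2) F)) := by
    refine mul_mem hg (mem_normalizer_of_forall fun x hx => ?_)
    rwa [hzs.comm x, mul_inv_cancel_right]
  have hDH : ∀ x ∈ D, H * x * H⁻¹ ∈ D := fun x hx =>
    (Subgroup.mem_normalizer_iff.1 (detOne_normal hnT) x).1 hx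
  suffices hsc : IsScal H by
    obtain ⟨c, hc⟩ := hsc
    obtain ⟨d, hd⟩ := isScal_scalar ε
    refine ⟨c * d, ?_⟩
    have e1 : g = H * GeneralLinearGroup.scalar (Fin 2) ε := by
      rw [hH, hz, mul_assoc, ← map_mul, inv_mul_cancel, map_one, mul_one]
    rw [e1, Units.val_mul, hc, hd, smul_mul_smul_comm, mul_one]
  rcases (show k = 1 ∨ 2 ≤ k by omega) with hk1 | hk2
  swap
  · obtain ⟨h1, h2'⟩ := quaternion_aut_trivial hk2 ψ hψ hN ⟨m, rfl⟩ (fun y =>
      (tr' _ (hDH _ (hψD y))).imp fun _ h => h.symm)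
    exact isScal_of_commute hab' h1 h2'
  subst hk1
  by_contra hns
  obtain ⟨A, hA, hAH⟩ : ∃ A ∈ D, H * A ≠ A * H := by
    by_contra hall
    push Not at hall
    exact hns (isScal_of_commute hab' (hall _ (hψD _)) (hall _ (hψD _)))
  have hcomm2 : ∀ x : GL (Fin 2) F, Commute (H * H) x → Commute H x := fun x hx =>
    commute_of_odd_pow hN ⟨m, rfl⟩ hx
  have hA2 : A * A ≠ 1 := by
    intro h1
    apply hAH
    obtain ⟨s, hs⟩ := exists_toGL_eq (mem_detOne.1 hA).2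
    subst hs
    rw [← map_mul, ← map_one SpecialLinearGroup.toGL] at h1
    exact ((isScal_of_center (SL2.mem_center_of_mul_self h2
      (SpecialLinearGroup.toGL_injective h1))).comm H).symm
  set B := H * A * H⁻¹ with hB
  set C := H * B * H⁻¹ with hC
  have hBD : B ∈ D := hDH A hA
  have hCD : C ∈ D := hDH B hBD
  have hB2 : B * B ≠ 1 := fun h1 => hA2 (by
    have : H * (A * A) * H⁻¹ = 1 := by rw [← h1, hB]; group
    exact conj_eq_one_iff.1 this)
  have hC2 : C * C ≠ 1 := fun h1 => hB2 (by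
    have : H * (B * B) * H⁻¹ = 1 := by rw [← h1, hC]; group
    exact conj_eq_one_iff.1 this)
  have conjD : ∀ x ∈ D, ∀ y ∈ D, y * x * y⁻¹ = x ∨ y * x * y⁻¹ = x⁻¹ := fun x hx y hy => by
    obtain ⟨u, rfl⟩ := tr' x hx
    obtain ⟨v, rfl⟩ := tr' y hy
    rcases q8_conj u v with he | he
    · left; rw [mul_inv_eq_iff_eq_mul, ← map_mul, ← map_mul]; exact congrArg ψ he
    · right; rw [mul_inv_eq_iff_eq_mul, ← map_inv, ← map_mul, ← map_mul]; exact congrArg ψ he
  have commD : ∀ x ∈ D, ∀ y ∈ D, x * y = y * x → x * x ≠ 1 → y * y ≠ 1 → y = x ∨ y = x⁻¹ := by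
    intro x hx y hy he hx2 hy2
    obtain ⟨u, rfl⟩ := tr' x hx
    obtain ⟨v, rfl⟩ := tr' y hy
    rw [← map_mul, ← map_mul, hψ.eq_iff] at he
    rcases q8_commute u v he (fun h => hx2 ((map_mul ψ u u).symm.trans ((congrArg ψ h).trans (map_one ψ))))
      (fun h => hy2 ((map_mul ψ v v).symm.trans ((congrArg ψ h).trans (map_one ψ)))) with e1 | e1
    · exact Or.inl (congrArg ψ e1)
    · exact Or.inr ((congrArg ψ e1).trans (map_inv _ _))
  have fixH : B = A ∨ B = A⁻¹ → False := by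
    rintro (e1 | e1)
    · exact hAH (mul_inv_eq_iff_eq_mul.1 e1)
    · refine hAH (hcomm2 A ?_).eq
      refine mul_inv_eq_iff_eq_mul.1 ?_
      rw [show H * H * A * (H * H)⁻¹ = H * B * H⁻¹ by rw [hB]; group, e1, ← conj_inv, ← hB, e1, inv_inv]
  have hAB : A * B ≠ B * A := fun he => fixH (commD A hA B hBD he hA2 hB2)
  have hconj : ∀ x y : GL (Fin 2) F, (H * x * H⁻¹) * (H * y * H⁻¹) = H * (x * y) * H⁻¹ :=
    fun x y => by group
  have hmove : ∀ x y : GL (Fin 2) F, x * y ≠ y * x →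
      (H * x * H⁻¹) * (H * y * H⁻¹) ≠ (H * y * H⁻¹) * (H * x * H⁻¹) := fun x y hne he => hne (by
    rw [hconj, hconj] at he
    exact mul_left_cancel (mul_right_cancel he))
  have hBC : B * C ≠ C * B := hmove A B hAB
  have hAC : A * C ≠ C * A := by
    intro he
    have hHH : H * H * A * (H * H)⁻¹ = C := by rw [hC, hB]; group
    have h4 : Commute (H * H * (H * H)) A := by
      refine mul_inv_eq_iff_eq_mul.1 ?_
      rw [show H * H * (H * H) * A * (H * H * (H * H))⁻¹ = H * H * (H * H * A * (H * H)⁻¹) * (H * H)⁻¹ by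
        group, hHH]
      rcases commD A hA C hCD he hA2 hC2 with e1 | e1
      · rw [e1, hHH, e1]
      · rw [e1, ← conj_inv, hHH, e1, inv_inv]
    have hH2N : (H * H) ^ (2 * m + 1) = 1 := by rw [← sq, ← pow_mul, mul_comm, pow_mul, hN, one_pow]
    exact hAH (hcomm2 A (commute_of_odd_pow hH2N ⟨m, rfl⟩ h4)).eq
  have cover : ∀ w ∈ D, w * w ≠ 1 →
      w = A ∨ w = A⁻¹ ∨ w = B ∨ w = B⁻¹ ∨ w = C ∨ w = C⁻¹ := by
    intro w hw hw2
    obtain ⟨x, hx⟩ := tr' A hA
    obtain ⟨y, hy⟩ := tr' B hBD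
    obtain ⟨u, hu⟩ := tr' C hCD
    obtain ⟨v, hv⟩ := tr' w hw
    have n1 : ∀ {x : QuaternionGroup (2 ^ 1)} {X : GL (Fin 2) F}, ψ x = X → X * X ≠ 1 → x * x ≠ 1 :=
      fun hX h1 h => h1 (by rw [← hX, ← map_mul, h, map_one])
    have n2 : ∀ {x y : QuaternionGroup (2 ^ 1)} {X Y : GL (Fin 2) F}, ψ x = X → ψ y = Y →
        X * Y ≠ Y * X → x * y ≠ y * x :=
      fun hX hY h1 h => h1 (by rw [← hX, ← hY, ← map_mul, ← map_mul, h])
    rw [← hx, ← hy, ← hu, ← hv]
    rcases q8_cover x y u v (n1 hx hA2) (n1 hy hB2) (n1 hu hC2) (n1 hv hw2) (n2 hx hy hAB)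
      (n2 hx hu hAC) (n2 hy hu hBC) with h | h | h | h | h | h
    exacts [Or.inl (congrArg ψ h), Or.inr (Or.inl ((congrArg ψ h).trans (map_inv _ _))),
      Or.inr (Or.inr (Or.inl (congrArg ψ h))),
      Or.inr (Or.inr (Or.inr (Or.inl ((congrArg ψ h).trans (map_inv _ _))))),
      Or.inr (Or.inr (Or.inr (Or.inr (Or.inl (congrArg ψ h))))),
      Or.inr (Or.inr (Or.inr (Or.inr (Or.inr ((congrArg ψ h).trans (map_inv _ _))))))]
  have hCA : A = H * C * H⁻¹ ∨ A⁻¹ = H * C * H⁻¹ := by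
    have n1 : B * (H * C * H⁻¹) ≠ (H * C * H⁻¹) * B := hmove A C hAC
    have n2 : C * (H * C * H⁻¹) ≠ (H * C * H⁻¹) * C := hmove B C hBC
    have n3 : (H * C * H⁻¹) * (H * C * H⁻¹) ≠ 1 := fun h1 => hC2 (by
      rw [hconj] at h1; exact conj_eq_one_iff.1 h1)
    rcases cover _ (hDH C hCD) n3 with h | h | h | h | h | h
    · exact Or.inl h.symm
    · exact Or.inr h.symm
    · exact absurd (by rw [h]) n1
    · exact absurd (by rw [h, mul_inv_cancel, inv_mul_cancel]) n1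
    · exact absurd (by rw [h]) n2
    · exact absurd (by rw [h, mul_inv_cancel, inv_mul_cancel]) n2
  have hTD : ∀ t ∈ T, ∀ x ∈ D, t * x * t⁻¹ ∈ D := fun t ht x hx => by
    rw [hD, mem_detOne] at hx ⊢
    exact ⟨mul_mem (mul_mem ht hx.1) (inv_mem ht), by simp [map_mul, hx.2]⟩
  set R : GL (Fin 2) F → GL (Fin 2) F → Prop := fun x y => y = x ∨ y = x⁻¹ with hR
  have Rconj : ∀ (t : GL (Fin 2) F) {x y}, R x y → R (t * x * t⁻¹) (t * y * t⁻¹) := by
    rintro t x y (rfl | rfl)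
    · exact Or.inl rfl
    · exact Or.inr (conj_inv).symm
  have Rtrans : ∀ {x y u}, R x y → R y u → R x u := by
    rintro x y u (rfl | rfl) (rfl | rfl)
    · exact Or.inl rfl
    · exact Or.inr rfl
    · exact Or.inr rfl
    · exact Or.inl (inv_inv x)
  have Rsymm : ∀ {x y}, R x y → R y x := by
    rintro x y (rfl | rfl)
    · exact Or.inl rfl
    · exact Or.inr (inv_inv x).symm
  have hCA : R A (H * C * H⁻¹) := hCA.elim (fun h => Or.inl h.symm) fun h => Or.inr h.symm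
  -- `τ` commutes with `H` on the classes
  have shift : ∀ x ∈ D, R (H * (τ * x * τ⁻¹) * H⁻¹) (τ * (H * x * H⁻¹) * τ⁻¹) := by
    intro x hx
    set s := H * τ * H⁻¹ * τ⁻¹ with hs
    have hsD : s ∈ D := by
      rw [hD, mem_detOne]
      refine ⟨mul_mem ((Subgroup.mem_normalizer_iff.1 hnT τ).1 hτ) (inv_mem hτ), ?_⟩
      simp [hs, map_mul]
    have hy : τ * (H * x * H⁻¹) * τ⁻¹ ∈ D := hTD τ hτ _ (hDH x hx)
    have e1 : H * (τ * x * τ⁻¹) * H⁻¹ = s * (τ * (H * x * H⁻¹) * τ⁻¹) * s⁻¹ := by rw [hs]; group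
    rw [e1]
    exact Rsymm (conjD _ hy s hsD)
  have fixA : R A (τ * A * τ⁻¹) := by
    have hfA : τ * A * τ⁻¹ * (τ * A * τ⁻¹) ≠ 1 := fun h1 => hA2 (by
      have : τ * (A * A) * τ⁻¹ = 1 := by rw [← h1]; group
      exact conj_eq_one_iff.1 this)
    have cases3 : R A (τ * A * τ⁻¹) ∨ R B (τ * A * τ⁻¹) ∨ R C (τ * A * τ⁻¹) := by
      rcases cover _ (hTD τ hτ A hA) hfA with e | e | e | e | e | e
      exacts [Or.inl (Or.inl e), Or.inl (Or.inr e), Or.inr (Or.inl (Or.inl e)),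
        Or.inr (Or.inl (Or.inr e)), Or.inr (Or.inr (Or.inl e)), Or.inr (Or.inr (Or.inr e))]
    have next1 : ∀ {x y}, x ∈ D → R y (τ * x * τ⁻¹) →
        R (H * y * H⁻¹) (τ * (H * x * H⁻¹) * τ⁻¹) :=
      fun hx hr => Rtrans (Rconj H hr) (shift _ hx)
    have finish : R A (τ ^ 3 * A * (τ ^ 3)⁻¹) → R A (τ * A * τ⁻¹) := by
      intro h1
      have hall : ∀ i : ℕ, R A ((τ ^ 3) ^ i * A * ((τ ^ 3) ^ i)⁻¹) := by
        intro i
        induction i with
        | zero => left; simp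
        | succ i ih =>
          refine Rtrans h1 (Rtrans (Rconj (τ ^ 3) ih) (Or.inl ?_))
          rw [pow_succ']; group
      obtain ⟨k, hk⟩ := hp ⟨τ, hτ⟩
      have hk' : τ ^ 2 ^ k = 1 := congrArg Subtype.val hk
      have hcop : Nat.Coprime 3 (2 ^ k) := Nat.Coprime.pow_right _ (by norm_num)
      obtain ⟨i, -, hi⟩ := Nat.exists_mul_mod_eq_one_of_coprime hcop (by
        rcases Nat.eq_zero_or_pos k with rfl | hk0
        · exfalso
          refine hτd 1 (by rw [map_one]; exact one_mem _) ?_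
          rw [pow_zero, pow_one] at hk'
          rw [hk', map_one, one_mul]
        · exact Nat.one_lt_two_pow hk0.ne')
      have e1 : (τ ^ 3) ^ i = τ := by
        rw [← pow_mul, ← Nat.mod_add_div (3 * i) (2 ^ k), hi, pow_add, pow_mul τ (2 ^ k), hk',
          one_pow, pow_one, mul_one]
      simpa only [e1] using hall i
    have e3 : τ ^ 3 * A * (τ ^ 3)⁻¹ = τ * (τ * (τ * A * τ⁻¹) * τ⁻¹) * τ⁻¹ := by
      rw [show τ ^ 3 = τ * τ * τ by rw [pow_succ, pow_two]]; group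
    rcases cases3 with h1 | h1 | h1
    · exact h1
    · have r1 : R C (τ * B * τ⁻¹) := next1 hA h1
      have r2 : R A (τ * C * τ⁻¹) := Rtrans hCA (next1 hBD r1)
      refine finish ?_
      rw [e3]
      exact Rtrans r2 (Rconj τ (Rtrans r1 (Rconj τ h1)))
    · have r1 : R A (τ * B * τ⁻¹) := Rtrans hCA (next1 hA h1)
      have r2 : R B (τ * C * τ⁻¹) := next1 hBD r1
      refine finish ?_
      rw [e3]
      exact Rtrans r1 (Rconj τ (Rtrans r2 (Rconj τ h1)))
  have fixB : R B (τ * B * τ⁻¹) := Rtrans (Rconj H fixA) (shift A hA)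
  have hBA : B * A * B⁻¹ = A⁻¹ := (conjD A hA B hBD).resolve_left fun e1 =>
    hAB (mul_inv_eq_iff_eq_mul.1 e1).symm
  have hAB' : A * B * A⁻¹ = B⁻¹ := (conjD B hBD A hA).resolve_left fun e1 =>
    hAB (mul_inv_eq_iff_eq_mul.1 e1)
  have hdD : ∀ x ∈ D, GeneralLinearGroup.det x = 1 := fun x hx => (mem_detOne.1 hx).2
  obtain ⟨τ₁, hτ₁T, hτ₁d, hA1, hB1⟩ : ∃ τ₁ ∈ T, GeneralLinearGroup.det τ₁ = GeneralLinearGroup.det τ ∧
      τ₁ * A * τ₁⁻¹ = A ∧ R B (τ₁ * B * τ₁⁻¹) := by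
    rcases fixA with e1 | e1
    · exact ⟨τ, hτ, rfl, e1, fixB⟩
    · refine ⟨τ * B, mul_mem hτ (mem_detOne.1 hBD).1, by rw [map_mul, hdD B hBD, mul_one], ?_, ?_⟩
      · calc τ * B * A * (τ * B)⁻¹ = τ * (B * A * B⁻¹) * τ⁻¹ := by group
          _ = A := by rw [hBA, ← conj_inv, e1, inv_inv]
      · rwa [show τ * B * B * (τ * B)⁻¹ = τ * B * τ⁻¹ by group]
  obtain ⟨τ₂, hτ₂T, hτ₂d, hA3, hB3⟩ : ∃ τ₂ ∈ T, GeneralLinearGroup.det τ₂ = GeneralLinearGroup.det τ ∧
      τ₂ * A * τ₂⁻¹ = A ∧ τ₂ * B * τ₂⁻¹ = B := by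
    rcases hB1 with e1 | e1
    · exact ⟨τ₁, hτ₁T, hτ₁d, hA1, e1⟩
    · refine ⟨τ₁ * A, mul_mem hτ₁T (mem_detOne.1 hA).1, by rw [map_mul, hdD A hA, mul_one, hτ₁d], ?_, ?_⟩
      · rwa [show τ₁ * A * A * (τ₁ * A)⁻¹ = τ₁ * A * τ₁⁻¹ by group]
      · calc τ₁ * A * B * (τ₁ * A)⁻¹ = τ₁ * (A * B * A⁻¹) * τ₁⁻¹ := by group
          _ = B := by rw [hAB', ← conj_inv, e1, inv_inv]
  obtain ⟨c, hc⟩ := isScal_of_commute hAB (mul_inv_eq_iff_eq_mul.1 hA3) (mul_inv_eq_iff_eq_mul.1 hB3)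
  have hdc : (GeneralLinearGroup.det τ₂ : F) = c * c := by
    rw [GeneralLinearGroup.val_det_apply, hc]
    simp [sq]
  have hc0 : c ≠ 0 := fun h0 => (GeneralLinearGroup.det τ₂).ne_zero (by rw [hdc, h0, mul_zero])
  refine hτd (Units.mk0 c hc0) ?_ (by rw [← hτ₂d]; exact Units.ext hdc.symm)
  have : GeneralLinearGroup.scalar (Fin 2) (Units.mk0 c hc0) = τ₂ := by
    refine Units.ext ?_
    rw [hc]
    ext i j
    fin_cases i <;> fin_cases j <;> simp
  rwa [this]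

end Cfsg.Agent.Lib.PronormalOddIndex
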