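import Mathlib
import Cfsg.Prelude.Def_Classical
import Cfsg.Agent.Lib.Forms.Bridge
import Cfsg.Agent.Lib.Classical.UnitaryOrder
import Cfsg.Agent.Lib.Classical.UnitaryTwo
import Cfsg.Agent.Lib.ClassicalSylowTwo.Arith
import Cfsg.Agent.Lib.PronormalOddIndex.UnitaryRankTwo

/-!
Sylow 2-subgroups of `SU_{2^w}(q)`, `q` odd.
-/

set_option autoImplicit false
set_option linter.unusedSectionVars false

namespace Cfsg.Agent.Lib.PronormalOddIndex

open Matrix Cfsg.Agent.Lib

variable {F : Type} [Field F] [Fintype F] {q : ℕ}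
  {κ η : Type} [Fintype κ] [DecidableEq κ] [Fintype η] [DecidableEq η]

/-- Unitary matrices for the standard form. -/
def IsUni (hF : Fintype.card F = q ^ 2) (g : GL κ F) : Prop :=
  g.valᵀ * (Forms.qPowHom hF).mapMatrix g.val = 1

theorem isUni_reindex (hF : Fintype.card F = q ^ 2) (e : κ ≃ η) {g : GL κ F} (h : IsUni hF g) :
    IsUni hF (glReindex e g) := by
  unfold IsUni at h ⊢
  have e1 : (Matrix.reindexAlgEquiv F F e g.val)ᵀ = Matrix.reindexAlgEquiv F F e g.valᵀ := rfl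
  have e2 : (Forms.qPowHom hF).mapMatrix (Matrix.reindexAlgEquiv F F e g.val) =
      Matrix.reindexAlgEquiv F F e ((Forms.qPowHom hF).mapMatrix g.val) := rfl
  rw [glReindex_val, e1, e2, ← map_mul, h, map_one]

theorem isUni_dg (hF : Fintype.card F = q ^ 2) {a b : GL κ F} (ha : IsUni hF a) (hb : IsUni hF b) :
    IsUni hF (dg (a, b)) := by
  unfold IsUni at ha hb ⊢
  have e : (Forms.qPowHom hF).mapMatrix (fromBlocks a.val 0 0 b.val) =
      fromBlocks ((Forms.qPowHom hF).mapMatrix a.val) 0 0 ((Forms.qPowHom hF).mapMatrix b.val) := by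
    rw [RingHom.mapMatrix_apply, Matrix.fromBlocks_map, Matrix.map_zero _ (map_zero _)]
    rfl
  rw [dg_val, Matrix.fromBlocks_transpose, e, Matrix.fromBlocks_multiply]
  simp only [Matrix.transpose_zero, Matrix.mul_zero, Matrix.zero_mul, add_zero, zero_add, ha, hb,
    fromBlocks_one]

theorem isUni_sw (hF : Fintype.card F = q ^ 2) : IsUni hF (sw : GL (κ ⊕ κ) F) := by
  show (fromBlocks 0 1 1 0 : Matrix (κ ⊕ κ) (κ ⊕ κ) F)ᵀ *
    (Forms.qPowHom hF).mapMatrix (fromBlocks 0 1 1 0) = 1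
  rw [RingHom.mapMatrix_apply, Matrix.fromBlocks_map, Matrix.map_zero _ (map_zero _),
    Matrix.map_one _ (map_zero _) (map_one _), Matrix.fromBlocks_transpose, Matrix.fromBlocks_multiply]
  simp [fromBlocks_one]

theorem isUni_mul (hF : Fintype.card F = q ^ 2) {g h : GL κ F} (hg : IsUni hF g) (hh : IsUni hF h) :
    IsUni hF (g * h) := by
  unfold IsUni at hg hh ⊢
  rw [Units.val_mul, Matrix.transpose_mul, map_mul]
  calc h.valᵀ * g.valᵀ * ((Forms.qPowHom hF).mapMatrix g.val * (Forms.qPowHom hF).mapMatrix h.val)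
      = h.valᵀ * (g.valᵀ * (Forms.qPowHom hF).mapMatrix g.val) * (Forms.qPowHom hF).mapMatrix h.val := by
        simp only [Matrix.mul_assoc]
    _ = 1 := by rw [hg, Matrix.mul_one, hh]

theorem isUni_double (hF : Fintype.card F = q ^ 2) {T : Subgroup (GL κ F)}
    (hT : ∀ g ∈ T, IsUni hF g) : ∀ g ∈ double T, IsUni hF g := by
  rintro _ ⟨a, ha, b, hb, rfl | rfl⟩
  · exact isUni_dg hF (hT a ha) (hT b hb)
  · exact isUni_mul hF (isUni_dg hF (hT a ha) (hT b hb)) (isUni_sw hF)

theorem mem_GU_iff (hF : Fintype.card F = q ^ 2) {n : ℕ} (g : GL (Fin n) F) :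
    g ∈ Cfsg.GU n F q ↔ IsUni hF g := by
  classical
  set σ := Forms.qPowHom hF
  have hq : q ≠ 0 := by have := Forms.two_le_of_card_sq hF; omega
  have key : ∀ u v : Fin n → F, Cfsg.hermForm n F q (g.val *ᵥ u) (g.val *ᵥ v) =
      u ⬝ᵥ ((g.valᵀ * σ.mapMatrix g.val) *ᵥ fun i => σ (v i)) := by
    intro u v
    rw [← Matrix.mulVec_mulVec, Matrix.dotProduct_mulVec, Matrix.vecMul_transpose]
    refine Finset.sum_congr rfl fun i _ => ?_
    rw [← Forms.qPowHom_apply hF, show σ ((g.val *ᵥ v) i) = (σ.mapMatrix g.val *ᵥ fun j => σ (v j)) i from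
      RingHom.map_mulVec σ g.val v i]
  constructor
  · intro hg
    show g.valᵀ * σ.mapMatrix g.val = 1
    ext i j
    have h : Cfsg.hermForm n F q (g.val *ᵥ Pi.single i 1) (g.val *ᵥ Pi.single j 1) =
      Cfsg.hermForm n F q (Pi.single i 1) (Pi.single j 1) := hg _ _
    rw [key] at h
    have e : (fun k => σ ((Pi.single j 1 : Fin n → F) k)) = Pi.single j 1 := by
      funext k; rcases eq_or_ne k j with rfl | hk <;> simp [*]
    rw [e] at h
    simp only [Cfsg.hermForm, Matrix.mulVec_single_one, single_dotProduct, one_mul, Matrix.col_apply] at h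
    rw [h, Matrix.one_apply, Finset.sum_eq_single i (fun k _ hk => by simp [hk]) (by simp)]
    rcases eq_or_ne i j with rfl | hij
    · simp
    · simp [hij, hq, Pi.single_eq_of_ne hij]
  · intro hg u v
    show Cfsg.hermForm n F q (g.val *ᵥ u) (g.val *ᵥ v) = _
    rw [key, show g.valᵀ * σ.mapMatrix g.val = 1 from hg, Matrix.one_mulVec]
    exact Finset.sum_congr rfl fun i _ => by
      show u i * σ (v i) = _
      rw [Forms.qPowHom_apply]

theorem odd_q (hF : Fintype.card F = q ^ 2) (hodd : Odd (Fintype.card F)) : Odd q := by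
  rw [hF] at hodd
  exact hodd.of_dvd_nat (dvd_pow_self q two_ne_zero)

theorem exists_field_card (hF : Fintype.card F = q ^ 2) :
    ∃ (K : Type) (_ : Field K) (_ : Fintype K), Fintype.card K = q := by
  obtain ⟨p, _⟩ := CharP.exists F
  haveI : Fact p.Prime := ⟨CharP.char_is_prime F p⟩
  obtain ⟨r, hp, hr⟩ := FiniteField.card F p
  obtain ⟨j, -, hj⟩ := (Nat.dvd_prime_pow hp).1 (hr ▸ hF ▸ dvd_pow_self q two_ne_zero)
  have hj0 : j ≠ 0 := by
    rintro rfl
    have := Forms.two_le_of_card_sq hF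
    rw [pow_zero] at hj
    omega
  haveI := Fintype.ofFinite (GaloisField p j)
  exact ⟨GaloisField p j, inferInstance, inferInstance, by
    rw [← Nat.card_eq_fintype_card, GaloisField.card p j hj0, hj]⟩

theorem v_GU_even (hF : Fintype.card F = q ^ 2) (hodd : Odd (Fintype.card F)) (N : ℕ) :
    (Nat.card (Cfsg.GU (2 * N) F q)).factorization 2 =
      N * (padicValNat 2 (q + 1) + padicValNat 2 (q ^ 2 - 1)) + padicValNat 2 N.factorial := by
  have hq := odd_q hF hodd
  have hq2 : 2 ≤ q := Forms.two_le_of_card_sq hF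
  have hplus : ∀ j : ℕ, padicValNat 2 (q ^ (2 * j + 1) + 1) = padicValNat 2 (q + 1) := by
    intro j
    obtain ⟨M, hM, hMo⟩ : ∃ M : ℕ, q ^ (2 * j + 1) + 1 = (q + 1) * M ∧ Odd M := by
      induction j with
      | zero => exact ⟨1, by ring, odd_one⟩
      | succ j ih =>
        obtain ⟨M, hM, hMo⟩ := ih
        have hle : q - 1 ≤ q ^ 2 * M := by
          have h1 : q * 1 ≤ q * (q * M) := Nat.mul_le_mul_left q (Nat.mul_pos (by omega) hMo.pos)
          rw [sq, mul_assoc]; omega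
        refine ⟨q ^ 2 * M - (q - 1), ?_, ?_⟩
        · zify [hle, show 1 ≤ q by omega]
          have hMz : ((q : ℤ)) ^ (2 * j + 1) + 1 = ((q : ℤ) + 1) * M := by exact_mod_cast hM
          rw [show 2 * (j + 1) + 1 = (2 * j + 1) + 2 by ring, pow_add]
          linear_combination ((q : ℤ) ^ 2) * hMz
        · refine Nat.Odd.sub_even hle (hq.pow.mul hMo) ?_
          obtain ⟨l, rfl⟩ := hq
          exact ⟨l, by omega⟩
    rw [hM, padicValNat.mul (by omega) (by rintro rfl; simp at hMo),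
      padicValNat.eq_zero_of_not_dvd (fun h => Nat.not_even_iff_odd.2 hMo (even_iff_two_dvd.2 h)), add_zero]
  set f : ℕ → ℕ := fun i => if Even i then q ^ (i + 1) + 1 else q ^ (i + 1) - 1 with hf
  have hne : ∀ i, f i ≠ 0 := fun i => by
    simp only [hf]
    split_ifs
    · omega
    · exact ClassicalSylowTwo.pred_pow_ne_zero hq2 (by omega)
  have key : ∀ N, padicValNat 2 (∏ i ∈ Finset.range (2 * N), f i) =
      N * (padicValNat 2 (q + 1) + padicValNat 2 (q ^ 2 - 1)) + padicValNat 2 N.factorial := by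
    intro N
    induction N with
    | zero => simp
    | succ m ih =>
      rw [show 2 * (m + 1) = 2 * m + 1 + 1 by ring, Finset.prod_range_succ, Finset.prod_range_succ,
        padicValNat.mul (mul_ne_zero (Finset.prod_ne_zero_iff.2 fun i _ => hne i) (hne _)) (hne _),
        padicValNat.mul (Finset.prod_ne_zero_iff.2 fun i _ => hne i) (hne _), ih,
        show f (2 * m) = q ^ (2 * m + 1) + 1 by simp [hf],
        show f (2 * m + 1) = q ^ (2 * (m + 1)) - 1 by
          simp only [hf, Nat.even_add_one, even_two_mul, not_true, if_false]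
          rfl,
        hplus, ClassicalSylowTwo.v_even hq hq2 m.succ_ne_zero, Nat.factorial_succ,
        padicValNat.mul m.succ_ne_zero m.factorial_ne_zero]
      ring
  rw [Classical.natCard_GU hF, Nat.factorization_def _ Nat.prime_two,
    padicValNat.mul (pow_ne_zero _ (by omega)) (Finset.prod_ne_zero_iff.2 fun i _ => hne i),
    padicValNat.eq_zero_of_not_dvd (fun h => Nat.not_even_iff_odd.2 hq.pow (even_iff_two_dvd.2 h)),
    zero_add]
  exact key N

/-- Good Sylow subgroups of `GU_2`. -/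
theorem exists_good_GU_two (hF : Fintype.card F = q ^ 2) (hodd : Odd (Fintype.card F)) :
    ∃ T : Subgroup (GL (Fin 2) F), Good T ∧ (∀ g ∈ T, IsUni hF g) ∧
      Nat.card T = 2 ^ (Nat.card (Cfsg.GU 2 F q)).factorization 2 := by
  classical
  haveI : Fact (Nat.Prime 2) := ⟨Nat.prime_two⟩
  have h2 : (2 : F) ≠ 0 := SL2.two_ne_zero_iff_odd.2 hodd
  have hq : q ≠ 0 := by have := Forms.two_le_of_card_sq hF; omega
  set G := Cfsg.GU 2 F q
  obtain ⟨T₀⟩ : Nonempty (Sylow 2 G) := Sylow.nonempty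
  set T : Subgroup (GL (Fin 2) F) := (T₀ : Subgroup G).map G.subtype with hT
  have hTG : T ≤ G := Subgroup.map_subtype_le _
  have hcard : Nat.card T = 2 ^ (Nat.card G).factorization 2 := by
    rw [hT, Subgroup.card_map_of_injective G.subtype_injective, T₀.card_eq_multiplicity]
  have hneg : (-1 : GL (Fin 2) F) ∈ T := by
    have hm : (-1 : GL (Fin 2) F) ∈ G := by
      rw [mem_GU_iff hF]
      show ((-1 : Matrix (Fin 2) (Fin 2) F))ᵀ * (Forms.qPowHom hF).mapMatrix (-1) = 1
      rw [map_neg, map_one]; simp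
    have hp : IsPGroup 2 (Subgroup.zpowers (⟨-1, hm⟩ : G)) := by
      refine IsPGroup.of_card (n := 1) ?_
      rw [Nat.card_zpowers, pow_one]
      refine orderOf_eq_prime (Subtype.ext (by simp)) fun h => h2 ?_
      have := congrArg (fun g : G => (g.1 : Matrix (Fin 2) (Fin 2) F) 0 0) h
      simp at this
      linear_combination -this
    haveI : (Subgroup.zpowers (⟨-1, hm⟩ : G)).Normal := by
      refine ⟨fun x hx g => ?_⟩
      obtain ⟨z, rfl⟩ := hx
      have hc : Commute g (⟨-1, hm⟩ : G) := Subtype.ext (Units.ext (by simp))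
      rw [(hc.zpow_right z).eq, mul_inv_cancel_right]
      exact zpow_mem (Subgroup.mem_zpowers _) _
    exact ⟨⟨-1, hm⟩, two_le_sylow_of_normal T₀ hp (Subgroup.mem_zpowers _), rfl⟩
  -- the determinant one part is quaternion
  obtain ⟨K, iK, iKf, hK⟩ := exists_field_card hF
  obtain ⟨eSU⟩ := Classical.nonempty_SU_two_mulEquiv hF hK
  have hKodd : Odd (Fintype.card K) := hK ▸ odd_q hF hodd
  let φ : Cfsg.SU 2 F q →* G :=
    { toFun := fun s => ⟨SpecialLinearGroup.toGL s.1, s.2⟩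
      map_one' := Subtype.ext (map_one _)
      map_mul' := fun s t => Subtype.ext (map_mul SpecialLinearGroup.toGL s.1 t.1) }
  have hφ : Function.Injective φ := fun s t h =>
    Subtype.ext (SpecialLinearGroup.toGL_injective (congrArg Subtype.val h))
  have hφr : φ.range = (Classical.guDet 2 F q).ker := by
    ext g
    rw [MonoidHom.mem_ker, MonoidHom.mem_range]
    constructor
    · rintro ⟨s, rfl⟩; exact det_toGL s.1
    · intro hg
      obtain ⟨s, hs⟩ := exists_toGL_eq (g := g.1) hg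
      refine ⟨⟨s, fun u v => ?_⟩, Subtype.ext hs⟩
      have := g.2 u v
      rw [← hs] at this
      exact this
  obtain ⟨S, hS⟩ := exists_sylow_comap φ hφ (by rw [hφr]; infer_instance) T₀
  obtain ⟨k, hk, -, ⟨eQ⟩⟩ := LinGroup.exists_sylow_two_equiv_quaternion hKodd
    (S.mapSurjective (f := eSU.toMonoidHom) eSU.surjective)
  have hD : detOne T = (S : Subgroup (Cfsg.SU 2 F q)).map (G.subtype.comp φ) := by
    ext g
    rw [mem_detOne, Subgroup.mem_map]
    constructor
    · rintro ⟨⟨x, hx, rfl⟩, hd⟩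
      obtain ⟨s, rfl⟩ : x ∈ φ.range := by rw [hφr, MonoidHom.mem_ker]; exact hd
      exact ⟨s, by rw [hS]; exact hx, rfl⟩
    · rintro ⟨s, hs, rfl⟩
      rw [hS] at hs
      exact ⟨⟨φ s, hs, rfl⟩, det_toGL s.1⟩
  obtain ⟨e⟩ : Nonempty (detOne T ≃* QuaternionGroup (2 ^ k)) := ⟨
    (MulEquiv.subgroupCongr hD).trans <|
      ((S : Subgroup (Cfsg.SU 2 F q)).equivMapOfInjective (G.subtype.comp φ)
        (G.subtype_injective.comp hφ)).symm.trans <|
      (((S : Subgroup (Cfsg.SU 2 F q)).equivMapOfInjective eSU.toMonoidHom eSU.injective).trans <|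
        (MulEquiv.subgroupCongr (Sylow.coe_mapSurjective _ _).symm).trans eQ)⟩
  -- an element with non-square determinant
  set N1 : Subgroup Fˣ := (powMonoidHom (q + 1) : Fˣ →* Fˣ).ker with hN1
  obtain ⟨ν, hν1, j, hj, hνsq⟩ : ∃ ν ∈ N1, ∃ j : ℕ, ν ^ 2 ^ j = 1 ∧ ∀ x ∈ N1, x * x ≠ ν := by
    have hm1 : (-1 : Fˣ) ∈ N1 := by
      rw [hN1, MonoidHom.mem_ker, powMonoidHom_apply]
      exact (odd_q hF hodd).add_one.neg_one_pow
    obtain ⟨u, hu, husq⟩ : ∃ u ∈ N1, ∀ x ∈ N1, x * x ≠ u := by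
      by_contra hall
      push Not at hall
      choose f hf hf' using hall
      have hsurj : Function.Surjective (fun x : N1 => x * x) := fun u =>
        ⟨⟨f u u.2, hf u u.2⟩, Subtype.ext (hf' u u.2)⟩
      have hinj := Finite.injective_iff_surjective.2 hsurj
      have := @hinj ⟨-1, hm1⟩ 1 (Subtype.ext (by simp))
      have h1 := congrArg (fun x : N1 => ((x : Fˣ) : F)) this
      simp at h1
      exact h2 (by linear_combination -h1)
    obtain ⟨j, m, hm, hN⟩ := Nat.exists_eq_pow_mul_and_not_dvd (Nat.card_pos (α := N1)).ne' 2 (by norm_num)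
    obtain ⟨l, rfl⟩ : Odd m := Nat.not_even_iff_odd.1 fun h => hm h.two_dvd
    refine ⟨u ^ (2 * l + 1), pow_mem hu _, j, ?_, fun x hx h => husq (x * (u ^ l)⁻¹)
      (mul_mem hx (inv_mem (pow_mem hu _))) ?_⟩
    · have h := congrArg Subtype.val (pow_card_eq_one' (G := N1) (x := ⟨u, hu⟩))
      rw [SubmonoidClass.coe_pow, OneMemClass.coe_one, hN] at h
      rwa [← pow_mul, mul_comm]
    · rw [mul_mul_mul_comm, h, ← mul_inv, ← pow_add, ← two_mul, pow_succ', mul_inv_cancel_right]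
  have hνn : (ν : F) ^ (q + 1) = 1 := by
    rw [hN1, MonoidHom.mem_ker, powMonoidHom_apply] at hν1
    rw [← Units.val_pow_eq_pow_val, hν1, Units.val_one]
  let d : Fin 2 → F := ![(ν : F), 1]
  have hdd : ∀ i, d i ^ (q + 1) = 1 := fun i => by fin_cases i <;> simp [d, hνn]
  let M : GL (Fin 2) F := GeneralLinearGroup.mkOfDetNeZero (Matrix.diagonal d)
    (by rw [Matrix.det_diagonal, Fin.prod_univ_two]; simp [d])
  have hMG : M ∈ G := fun u v => Classical.diagonal_mem_GU hF d hdd u v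
  have hMdet : GeneralLinearGroup.det M = ν := by
    refine Units.ext ?_
    show (Matrix.diagonal d).det = _
    rw [Matrix.det_diagonal, Fin.prod_univ_two]; simp [d]
  have hMp : (⟨M, hMG⟩ : G) ^ 2 ^ j = 1 := by
    refine Subtype.ext (Units.ext ?_)
    show (M ^ 2 ^ j).val = 1
    rw [Units.val_pow_eq_pow_val]
    show Matrix.diagonal d ^ 2 ^ j = 1
    rw [Matrix.diagonal_pow, ← Matrix.diagonal_one]
    congr 1
    funext i
    fin_cases i
    · show (ν : F) ^ 2 ^ j = 1
      rw [← Units.val_pow_eq_pow_val, hj, Units.val_one]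
    · show (1 : F) ^ 2 ^ j = 1
      exact one_pow _
  have hp : IsPGroup 2 (Subgroup.zpowers (⟨M, hMG⟩ : G)) := by
    obtain ⟨i, -, hi⟩ := (Nat.dvd_prime_pow Nat.prime_two).1 (orderOf_dvd_of_pow_eq_one hMp)
    exact IsPGroup.of_card (n := i) (by rw [Nat.card_zpowers, hi])
  obtain ⟨R, hR⟩ := hp.exists_le_sylow
  obtain ⟨g, hg⟩ := MulAction.exists_smul_eq G R T₀
  obtain ⟨τ, hτT, hτd⟩ : ∃ τ ∈ T, GeneralLinearGroup.det τ = ν := by
    clear_value M
    refine ⟨g.1 * M * (g.1)⁻¹, ⟨g * ⟨M, hMG⟩ * g⁻¹, ?_, ?_⟩, ?_⟩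
    rotate_left
    · simp only [Subgroup.coe_subtype, Subgroup.coe_mul, Subgroup.coe_inv]
    rotate_left
    · rw [← hg]
      exact ⟨⟨M, hMG⟩, hR (Subgroup.mem_zpowers _), rfl⟩
    · rw [map_mul, map_mul, map_inv, hMdet]
      exact mul_inv_cancel_comm _ _
  have hTU : ∀ x ∈ T, IsUni hF x := fun x hx => (mem_GU_iff hF x).1 (hTG hx)
  refine ⟨T, good_two_of h2 (T₀.2.map _) hneg hk e hτT (fun c hc h => ?_), hTU, hcard⟩
  refine hνsq c ?_ (h.trans hτd)
  have h1 : (GeneralLinearGroup.scalar (Fin 2) c : GL (Fin 2) F).valᵀ *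
      (Forms.qPowHom hF).mapMatrix (GeneralLinearGroup.scalar (Fin 2) c : GL (Fin 2) F).val = 1 := hTU _ hc
  have h00 := congrFun (congrFun h1 0) 0
  rw [hN1, MonoidHom.mem_ker, powMonoidHom_apply]
  refine Units.ext ?_
  rw [Units.val_pow_eq_pow_val, Units.val_one, pow_succ']
  simpa [Matrix.mul_apply, Fin.sum_univ_two, zero_pow hq] using h00

/-- The doubled subgroup is a Sylow subgroup of the unitary group. -/
theorem card_double_GU (hF : Fintype.card F = q ^ 2) (hodd : Odd (Fintype.card F)) {k : ℕ}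
    {T : Subgroup (GL (Fin (2 * 2 ^ k)) F)}
    (hc : Nat.card T = 2 ^ (Nat.card (Cfsg.GU (2 * 2 ^ k) F q)).factorization 2) :
    Nat.card (double T) = 2 ^ (Nat.card (Cfsg.GU (2 * 2 ^ (k + 1)) F q)).factorization 2 := by
  haveI : Nonempty (Fin (2 * 2 ^ k)) := ⟨⟨0, by positivity⟩⟩
  rw [card_double, hc, v_GU_even hF hodd, v_GU_even hF hodd, ← pow_add, ← pow_succ]
  congr 1
  have h1 := ClassicalSylowTwo.vfac_two_pow k
  have h3 : (2 ^ (k + 1)) = 2 * 2 ^ k := by ring
  rw [h3, ClassicalSylowTwo.vfac_two_mul, mul_assoc]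
  omega

/-- Good Sylow subgroups of `GU_{2^{k+1}}`. -/
theorem exists_good_GU (hF : Fintype.card F = q ^ 2) (hodd : Odd (Fintype.card F)) :
    ∀ k : ℕ, ∃ T : Subgroup (GL (Fin (2 * 2 ^ k)) F), Good T ∧ (∀ g ∈ T, IsUni hF g) ∧
      Nat.card T = 2 ^ (Nat.card (Cfsg.GU (2 * 2 ^ k) F q)).factorization 2
  | 0 => exists_good_GU_two hF hodd
  | k + 1 => by
    obtain ⟨T, hT, hU, hc⟩ := exists_good_GU hF hodd k
    let e : Fin (2 * 2 ^ k) ⊕ Fin (2 * 2 ^ k) ≃ Fin (2 * 2 ^ (k + 1)) :=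
      finSumFinEquiv.trans (finCongr (by ring))
    haveI : Nonempty (Fin (2 * 2 ^ k)) := ⟨⟨0, by positivity⟩⟩
    refine ⟨(double T).map (glReindex e).toMonoidHom,
      (good_double hT (SL2.two_ne_zero_iff_odd.2 hodd) (by simp)).map e, ?_, ?_⟩
    · rintro _ ⟨x, hx, rfl⟩
      exact isUni_reindex hF e (isUni_double hF hU x hx)
    · rw [Subgroup.card_map_of_injective (f := (glReindex e).toMonoidHom) (glReindex e).injective,
        card_double_GU hF hodd hc]

/-- Sylow 2-subgroups of `SU_{2^{k+2}}(q)` are self-normalizing up to the centre. -/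
theorem exists_sylow_unitary_odd (hF : Fintype.card F = q ^ 2) (hodd : Odd (Fintype.card F)) (k : ℕ) :
    ∃ S : Sylow 2 (Cfsg.SU (2 ^ (k + 2)) F q),
      Subgroup.normalizer ((S : Subgroup (Cfsg.SU (2 ^ (k + 2)) F q)) : Set (Cfsg.SU (2 ^ (k + 2)) F q)) ≤
      (S : Subgroup (Cfsg.SU (2 ^ (k + 2)) F q)) ⊔ Subgroup.center _ := by
  classical
  haveI : Fact (Nat.Prime 2) := ⟨Nat.prime_two⟩
  obtain ⟨T, hT, hU, hc⟩ := exists_good_GU hF hodd k
  haveI : Nonempty (Fin (2 * 2 ^ k)) := ⟨⟨0, by positivity⟩⟩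
  let e : Fin (2 * 2 ^ k) ⊕ Fin (2 * 2 ^ k) ≃ Fin (2 ^ (k + 2)) :=
    finSumFinEquiv.trans (finCongr (by ring))
  have hn : 2 * 2 ^ (k + 1) = 2 ^ (k + 2) := by ring
  have h2 := SL2.two_ne_zero_iff_odd.2 hodd
  have hev : Even (Fintype.card (Fin (2 * 2 ^ k))) := by simp
  set n := 2 ^ (k + 2) with hn'
  set D : Subgroup (GL (Fin n) F) := (double T).map (glReindex e).toMonoidHom with hD
  have hDG : D ≤ Cfsg.GU n F q := by
    rintro _ ⟨x, hx, rfl⟩
    exact (mem_GU_iff hF _).2 (isUni_reindex hF e (isUni_double hF hU x hx))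
  have hDcard : Nat.card (D.subgroupOf (Cfsg.GU n F q)) =
      2 ^ (Nat.card (Cfsg.GU n F q)).factorization 2 := by
    rw [Nat.card_congr (Subgroup.subgroupOfEquivOfLe hDG).toEquiv, hD,
      Subgroup.card_map_of_injective (f := (glReindex e).toMonoidHom) (glReindex e).injective,
      card_double_GU hF hodd hc, hn]
  let ι : Cfsg.SU n F q →* Cfsg.GU n F q :=
    { toFun := fun s => ⟨SpecialLinearGroup.toGL s.1, s.2⟩
      map_one' := Subtype.ext (map_one _)
      map_mul' := fun s t => Subtype.ext (map_mul SpecialLinearGroup.toGL s.1 t.1) }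
  have hι : Function.Injective ι := fun s t h =>
    Subtype.ext (SpecialLinearGroup.toGL_injective (congrArg Subtype.val h))
  have hιr : ι.range = (Classical.guDet n F q).ker := by
    ext g
    rw [MonoidHom.mem_ker, MonoidHom.mem_range]
    constructor
    · rintro ⟨s, rfl⟩; exact det_toGL s.1
    · intro hg
      obtain ⟨s, hs⟩ := exists_toGL_eq (g := g.1) hg
      refine ⟨⟨s, fun u v => ?_⟩, Subtype.ext hs⟩
      have := g.2 u v
      rw [← hs] at this
      exact this
  obtain ⟨S, hS⟩ := exists_sylow_comap ι hι (by rw [hιr]; infer_instance)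
    (Sylow.ofCard (D.subgroupOf (Cfsg.GU n F q)) hDcard)
  refine ⟨S, fun g hg => ?_⟩
  let φ : Cfsg.SU n F q →* GL (Fin (2 * 2 ^ k) ⊕ Fin (2 * 2 ^ k)) F :=
    (glReindex e).symm.toMonoidHom.comp ((Cfsg.GU n F q).subtype.comp ι)
  have hφ : Function.Injective φ :=
    (glReindex e).symm.injective.comp (Subtype.val_injective.comp hι)
  have hdet : ∀ s, GeneralLinearGroup.det (φ s) = 1 := fun s => by
    rw [← det_glReindex e]
    show GeneralLinearGroup.det (glReindex e ((glReindex e).symm (ι s).1)) = 1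
    rw [MulEquiv.apply_symm_apply]
    exact det_toGL s.1
  have hmem : ∀ s, φ s ∈ detOne (double T) ↔ s ∈ (S : Subgroup (Cfsg.SU n F q)) := fun s => by
    rw [mem_detOne, hS, Subgroup.mem_comap, Sylow.coe_ofCard, Subgroup.mem_subgroupOf, hD,
      Subgroup.mem_map_equiv]
    exact ⟨fun h => h.1, fun h => ⟨h, hdet s⟩⟩
  have hsurj : ∀ x ∈ detOne (double T), ∃ s, φ s = x := by
    intro x hx
    obtain ⟨hxD, hxd⟩ := mem_detOne.1 hx
    have hxG : glReindex e x ∈ Cfsg.GU n F q := hDG ⟨x, hxD, rfl⟩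
    obtain ⟨s, hs⟩ : (⟨_, hxG⟩ : Cfsg.GU n F q) ∈ ι.range := by
      rw [hιr, MonoidHom.mem_ker]
      show GeneralLinearGroup.det (glReindex e x) = 1
      rw [det_glReindex, hxd]
    exact ⟨s, by show (glReindex e).symm (ι s).1 = x; rw [hs, MulEquiv.symm_apply_apply]⟩
  obtain ⟨j, m, hm, hj⟩ := Nat.exists_eq_pow_mul_and_not_dvd (orderOf_pos g).ne' 2 (by norm_num)
  obtain ⟨c, d, hcd⟩ : ∃ c d : ℤ, c * (2 ^ j : ℕ) + d * (m : ℕ) = 1 := by
    have hcop : Nat.Coprime (2 ^ j) m := Nat.Coprime.pow_left _ ((Nat.prime_two.coprime_iff_not_dvd).2 hm)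
    exact ⟨Nat.gcdA (2 ^ j) m, Nat.gcdB (2 ^ j) m, by
      have := Nat.gcd_eq_gcd_ab (2 ^ j) m; rw [hcop] at this; push_cast at this ⊢; linear_combination -this⟩
  have hg2 : (g ^ (2 ^ j : ℕ)) ^ c * (g ^ m) ^ d = g := by
    rw [← zpow_natCast, ← zpow_natCast g m, ← _root_.zpow_mul, ← _root_.zpow_mul, ← _root_.zpow_add,
      show ((2 ^ j : ℕ) : ℤ) * c + (m : ℤ) * d = 1 by linear_combination hcd, zpow_one]
  rw [← hg2]
  refine mul_mem (zpow_mem (Subgroup.mem_sup_right ?_) c) (zpow_mem (Subgroup.mem_sup_left ?_) d)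
  · set u := g ^ (2 ^ j) with hu
    have huN : φ u ∈ Subgroup.normalizer (detOne (double T) : Set (GL _ F)) := by
      refine mem_normalizer_of_forall fun x hx => ?_
      obtain ⟨s, rfl⟩ := hsurj x hx
      rw [← map_inv, ← map_mul, ← map_mul, hmem]
      exact (Subgroup.mem_normalizer_iff.1 (pow_mem hg _) s).1 ((hmem s).1 hx)
    have huo : Odd (orderOf (φ u)) := by
      refine Odd.of_dvd_nat (Nat.not_even_iff_odd.1 fun h => hm h.two_dvd)
        (orderOf_dvd_of_pow_eq_one ?_)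
      rw [← map_pow, hu, ← pow_mul, ← hj, pow_orderOf_eq_one, map_one]
    have hsc := odd_scal_detOne hT h2 hev _ huN huo
    rw [Subgroup.mem_center_iff]
    intro x
    apply hφ
    rw [map_mul, map_mul]
    exact (hsc.comm _).symm
  · have hpow : (g ^ m) ^ 2 ^ j = 1 := by rw [← pow_mul, mul_comm, ← hj, pow_orderOf_eq_one]
    have hp : IsPGroup 2 (Subgroup.zpowers (g ^ m)) := by
      obtain ⟨i, -, hi⟩ := (Nat.dvd_prime_pow Nat.prime_two).1 (orderOf_dvd_of_pow_eq_one hpow)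
      exact IsPGroup.of_card (n := i) (by rw [Nat.card_zpowers, hi])
    have h := hp.to_sup_of_normal_right' S.2 (Subgroup.zpowers_le.2 (pow_mem hg m))
    exact (le_sup_left.trans (le_of_eq (S.3 h le_sup_right))) (Subgroup.mem_zpowers _)

end Cfsg.Agent.Lib.PronormalOddIndex
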