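import Mathlib
import Cfsg.Agent.Lib.SteinbergBlock.Groups

/-!
The fixed points in `SL_n(F)` of the graph-field endomorphism, their unitriangular part and the
Bruhat decomposition with fixed factors.
-/

set_option autoImplicit false
set_option linter.unusedSectionVars false

namespace Cfsg.Agent.Lib.PronormalOddIndex

open Matrix Cfsg.Agent.Lib.SteinbergBlock

universe u

variable {n : ℕ} {F : Type u} [Field F] [Fintype F] (σ : F →+* F)

/-- The entries of the twisted element. -/
def thetaMat (g : SLn n F) : Matrix (Fin n) (Fin n) F :=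
  Matrix.of fun a b => σ ((g⁻¹).1 (Fin.rev b) (Fin.rev a))

theorem det_thetaMat (g : SLn n F) : (thetaMat σ g).det = 1 := by
  have e : thetaMat σ g = ((σ.mapMatrix (g⁻¹).1)ᵀ).submatrix Fin.revPerm Fin.revPerm := rfl
  rw [e, Matrix.det_submatrix_equiv_self, Matrix.det_transpose, ← RingHom.map_det, (g⁻¹).2, map_one]

/-- The graph-field endomorphism. -/
def theta : SLn n F →* SLn n F where
  toFun g := ⟨thetaMat σ g, det_thetaMat σ g⟩
  map_one' := Subtype.ext (Matrix.ext fun a b => by
    show σ ((1⁻¹ : SLn n F).1 (Fin.rev b) (Fin.rev a)) = (1 : SLn n F).1 a b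
    rw [inv_one, val_one, Matrix.one_apply, Matrix.one_apply, apply_ite σ, map_one, map_zero]
    exact if_congr (by rw [Fin.rev_inj, eq_comm]) rfl rfl)
  map_mul' g h := Subtype.ext (Matrix.ext fun a b => by
    show σ (((g * h)⁻¹).1 (Fin.rev b) (Fin.rev a)) = (thetaMat σ g * thetaMat σ h) a b
    rw [_root_.mul_inv_rev, val_mul, Matrix.mul_apply, map_sum, Matrix.mul_apply]
    exact Fintype.sum_equiv Fin.revPerm _ _ fun k => by
      simp only [thetaMat, Matrix.of_apply, Fin.revPerm_apply, Fin.rev_rev, map_mul]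
      exact mul_comm _ _)

theorem theta_apply (g : SLn n F) (a b : Fin n) :
    (theta σ g).1 a b = σ ((g⁻¹).1 (Fin.rev b) (Fin.rev a)) := rfl

theorem theta_theta (hσ : ∀ x, σ (σ x) = x) (g : SLn n F) : theta σ (theta σ g) = g := by
  refine Subtype.ext (Matrix.ext fun a b => ?_)
  rw [theta_apply, ← map_inv, theta_apply, inv_inv, Fin.rev_rev, Fin.rev_rev, hσ]

/-- The fixed points. -/
def fixG : Subgroup (SLn n F) := MonoidHom.eqLocus (theta σ) (MonoidHom.id _)

theorem mem_fixG {g : SLn n F} : g ∈ fixG σ ↔ theta σ g = g := Iff.rfl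

/-- The conjugate permutation. -/
def revConj (w : Equiv.Perm (Fin n)) : Equiv.Perm (Fin n) := Fin.revPerm * w * Fin.revPerm

theorem revConj_apply (w : Equiv.Perm (Fin n)) (a : Fin n) :
    revConj w a = Fin.rev (w (Fin.rev a)) := rfl

theorem isMono_theta {g : SLn n F} {w : Equiv.Perm (Fin n)} (hg : IsMono g w) :
    IsMono (theta σ g) (revConj w) := by
  intro a b hab
  rw [theta_apply, hg.inv _ _ ?_, map_zero]
  intro e
  apply hab
  have h : w (Fin.rev b) = Fin.rev a := by rw [e]; exact w.apply_symm_apply _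
  rw [revConj_apply, h, Fin.rev_rev]

theorem theta_shape {S S' : Fin n → Fin n → Prop}
    {hS : ∀ i k j, i < k → k < j → S i k → S k j → S i j}
    (h : ∀ i j, S i j → S' (Fin.rev j) (Fin.rev i)) {g : SLn n F} (hg : g ∈ shapeGroup S hS) :
    IsShape S' (theta σ g) := by
  have hgi : IsShape S g⁻¹ := mem_shapeGroup.1 (inv_mem hg)
  refine ⟨fun i => by rw [theta_apply, hgi.1, map_one], fun i j hij hne => ?_⟩
  rw [theta_apply] at hne
  have hne' : (g⁻¹).1 (Fin.rev j) (Fin.rev i) ≠ 0 := fun e => hne (by rw [e, map_zero])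
  obtain ⟨h1, h2⟩ := hgi.2 _ _ (fun e => hij (Fin.rev_injective e).symm) hne'
  have h3 := h _ _ h2
  rw [Fin.rev_rev, Fin.rev_rev] at h3
  exact ⟨Fin.rev_lt_rev.1 h1, h3⟩

theorem theta_mem_upU {g : SLn n F} (hg : g ∈ upU n F) : theta σ g ∈ upU n F :=
  mem_shapeGroup.2 (theta_shape σ (fun _ _ _ => trivial) hg)

/-- The part of the unitriangular group moved below the diagonal by `w`. -/
def vU (w : Equiv.Perm (Fin n)) : Subgroup (SLn n F) :=
  shapeGroup (fun i j => w j < w i) fun _ _ _ _ _ h1 h2 => h2.trans h1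

/-- The part of the unitriangular group kept above the diagonal by `w`. -/
def cU (w : Equiv.Perm (Fin n)) : Subgroup (SLn n F) :=
  shapeGroup (fun i j => w i < w j) fun _ _ _ _ _ h1 h2 => h1.trans h2

theorem theta_mem_vU {w : Equiv.Perm (Fin n)} {g : SLn n F} (hg : g ∈ vU w) :
    theta σ g ∈ vU (revConj w) :=
  mem_shapeGroup.2 (theta_shape σ (fun i j h => by
    simp only [revConj_apply, Fin.rev_rev]; exact Fin.rev_lt_rev.2 h) hg)

open Classical in
theorem exists_restr (S : Fin n → Fin n → Prop) (hS : ∀ i k j, i < k → k < j → S i k → S k j → S i j)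
    (g : SLn n F) : ∃ r ∈ shapeGroup (F := F) S hS, ∀ i j, i < j → S i j → r.1 i j = g.1 i j := by
  let M : Matrix (Fin n) (Fin n) F := Matrix.of fun i j =>
    if i = j then 1 else if i < j ∧ S i j then g.1 i j else 0
  have hlo : ∀ i j, j < i → M i j = 0 := fun i j h => by
    simp [M, h.ne', not_lt.2 h.le]
  have hdi : ∀ i, M i i = 1 := fun i => by simp [M]
  have hdet : M.det = 1 := by
    rw [Matrix.det_of_upperTriangular (fun i j h => hlo i j h)]
    simp [hdi]
  refine ⟨⟨M, hdet⟩, mem_shapeGroup.2 ⟨hdi, fun i j hij hne => ?_⟩, fun i j h1 h2 => ?_⟩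
  · by_contra hc
    exact hne (by show M i j = 0; simp [M, hij, hc])
  · show M i j = _
    simp [M, h1.ne, h1, h2]

theorem eq_one_of_cU_vU {w : Equiv.Perm (Fin n)} {x : SLn n F} (h1 : x ∈ cU w) (h2 : x ∈ vU w) :
    x = 1 := by
  refine Subtype.ext (Matrix.ext fun i j => ?_)
  rcases eq_or_ne i j with rfl | hij
  · rw [(mem_shapeGroup.1 h1).1, val_one, Matrix.one_apply_eq]
  · rw [val_one, Matrix.one_apply_ne hij]
    by_contra hne
    exact lt_asymm ((mem_shapeGroup.1 h1).2 i j hij hne).2 ((mem_shapeGroup.1 h2).2 i j hij hne).2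

theorem exists_cU_mul_vU (w : Equiv.Perm (Fin n)) {g : SLn n F} (hg : g ∈ upU n F) :
    ∃ c ∈ cU (F := F) w, ∃ v ∈ vU (F := F) w, g = c * v := by
  classical
  have hc : ∀ {x : SLn n F}, x ∈ cU w → x ∈ upU n F := fun h => shapeGroup_le_upU h
  have hv : ∀ {x : SLn n F}, x ∈ vU w → x ∈ upU n F := fun h => shapeGroup_le_upU h
  let f : cU (F := F) w × vU (F := F) w → upU n F := fun p =>
    ⟨p.1.1 * p.2.1, mul_mem (hc p.1.2) (hv p.2.2)⟩
  have hf : Function.Injective f := by
    rintro ⟨⟨c, hc1⟩, ⟨v, hv1⟩⟩ ⟨⟨c', hc2⟩, ⟨v', hv2⟩⟩ e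
    have e' : c * v = c' * v' := congrArg Subtype.val e
    have e2 : c'⁻¹ * c = v' * v⁻¹ := by
      rw [inv_mul_eq_iff_eq_mul, ← mul_assoc, eq_mul_inv_iff_mul_eq, e']
    have h1 := eq_one_of_cU_vU (w := w) (mul_mem (inv_mem hc2) hc1)
      (e2 ▸ mul_mem hv2 (inv_mem hv1))
    obtain rfl : c' = c := inv_mul_eq_one.1 h1
    obtain rfl : v = v' := mul_left_cancel e'
    rfl
  choose rc hrc hrce using exists_restr (F := F) (n := n) (fun i j => w i < w j)
    (fun _ _ _ _ _ h1 h2 => h1.trans h2)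
  choose rv hrv hrve using exists_restr (F := F) (n := n) (fun i j => w j < w i)
    (fun _ _ _ _ _ h1 h2 => h2.trans h1)
  let r : upU n F → cU (F := F) w × vU (F := F) w := fun x => (⟨rc x, hrc x⟩, ⟨rv x, hrv x⟩)
  have hr : Function.Injective r := by
    intro x y e
    obtain ⟨e1, e2⟩ := Prod.ext_iff.1 e
    refine Subtype.ext (Subtype.ext (Matrix.ext fun i j => ?_))
    rcases lt_trichotomy i j with h | rfl | h
    · rcases lt_or_gt_of_ne (w.injective.ne h.ne) with h' | h'
      · rw [← hrce x.1 i j h h', ← hrce y.1 i j h h']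
        exact congrArg (fun z : cU (F := F) w => z.1.1 i j) e1
      · rw [← hrve x.1 i j h h', ← hrve y.1 i j h h']
        exact congrArg (fun z : vU (F := F) w => z.1.1 i j) e2
    · rw [(mem_upU.1 x.2).1, (mem_upU.1 y.2).1]
    · rw [(mem_upU.1 x.2).2 i j h, (mem_upU.1 y.2).2 i j h]
  obtain ⟨⟨c, v⟩, e⟩ := (hf.bijective_of_nat_card_le (Nat.card_le_card_of_injective r hr)).2 ⟨g, hg⟩
  exact ⟨c, c.2, v, v.2, (congrArg Subtype.val e).symm⟩

/-- Uniqueness of the normal form. -/
theorem bruhat_unique {w w' : Equiv.Perm (Fin n)} {u u' m m' v v' : SLn n F}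
    (hu : u ∈ upU n F) (hu' : u' ∈ upU n F) (hv : v ∈ vU w) (hv' : v' ∈ vU w')
    (hm : IsMono m w) (hm' : IsMono m' w') (e : u * m * v = u' * m' * v') :
    u = u' ∧ m = m' ∧ v = v' := by
  set x := u'⁻¹ * u
  set y := v' * v⁻¹
  have hx : x ∈ upU n F := mul_mem (inv_mem hu') hu
  have hy : y ∈ upU n F := mul_mem (shapeGroup_le_upU hv') (inv_mem (shapeGroup_le_upU hv))
  have exy : x * m = m' * y := by
    simp only [x, y]
    rw [← mul_assoc m', eq_mul_inv_iff_mul_eq, mul_assoc, mul_assoc, inv_mul_eq_iff_eq_mul,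
      ← mul_assoc, ← mul_assoc, e]
  have key : ∀ b, x.1 (w b) (w b) * m.1 (w b) b = (x * m).1 (w b) b := fun b =>
    (hm.mul_apply_right x (w b) b).symm
  have hle : ∀ b, w'.symm (w b) ≤ b := by
    intro b
    by_contra hb
    have h := key b
    rw [exy, (mem_upU.1 hx).1, one_mul] at h
    have h2 := hm'.mul_apply_left y (w'.symm (w b)) b
    rw [w'.apply_symm_apply, (mem_upU.1 hy).2 _ _ (not_le.1 hb), mul_zero] at h2
    exact hm.apply_ne b (h.trans h2)
  have hw : w = w' := by
    have hid : ∀ k : ℕ, ∀ b : Fin n, (b : ℕ) = k → w'.symm (w b) = b := by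
      intro k
      induction k using Nat.strong_induction_on with
      | _ k ih =>
        intro b hb
        refine le_antisymm (hle b) (not_lt.1 fun h => ?_)
        have := ih _ (hb ▸ Fin.lt_def.1 h) _ rfl
        exact h.ne (w.injective (w'.symm.injective this))
    ext b
    have := hid _ b rfl
    rw [Equiv.symm_apply_eq] at this
    rw [this]
  subst hw
  have hmm : m = m' := by
    refine Subtype.ext (Matrix.ext fun a b => ?_)
    by_cases hab : a = w b
    · subst hab
      have h := key b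
      rw [exy, (mem_upU.1 hx).1, one_mul, hm'.mul_apply_left y b b, (mem_upU.1 hy).1, mul_one] at h
      exact h
    · rw [hm a b hab, hm' a b hab]
  subst hmm
  have hy1 : y = 1 := by
    refine Subtype.ext (Matrix.ext fun i j => ?_)
    rcases eq_or_ne i j with rfl | hij
    · rw [(mem_upU.1 hy).1, val_one, Matrix.one_apply_eq]
    · rw [val_one, Matrix.one_apply_ne hij]
      by_contra hne
      have h1 : w j < w i := ((mem_shapeGroup.1 (mul_mem hv' (inv_mem hv))).2 i j hij hne).2
      have h2 : (m * y * m⁻¹).1 (w i) (w j) ≠ 0 := (hm.conj_ne y i j).2 hne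
      rw [← exy, mul_inv_cancel_right] at h2
      exact h2 ((mem_upU.1 hx).2 _ _ h1)
  have hx1 : x = 1 := by
    have := exy
    rw [hy1, mul_one, mul_eq_right] at this
    exact this
  exact ⟨(inv_mul_eq_one.1 hx1).symm, rfl, (mul_inv_eq_one.1 hy1).symm⟩

/-- Every fixed element is fixed unitriangular, fixed monomial, fixed unitriangular. -/
theorem exists_fixed_umv {g : SLn n F} (hg : g ∈ fixG σ) :
    ∃ (w : Equiv.Perm (Fin n)) (u m v : SLn n F), IsMono m w ∧ u ∈ upU n F ⊓ fixG σ ∧
      m ∈ fixG σ ∧ v ∈ upU n F ⊓ fixG σ ∧ g = u * m * v := by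
  obtain ⟨u, hu, u', hu', w, m, hm, rfl⟩ := exists_bruhat_sl g
  obtain ⟨c, hc, v, hv, rfl⟩ := exists_cU_mul_vU w hu'
  have hmc : m * c * m⁻¹ ∈ upU n F :=
    mem_shapeGroup.2 (hm.conj_shape (mem_shapeGroup.1 hc) fun a b _ h _ => ⟨h, trivial⟩)
  have e : u * m * (c * v) = u * (m * c * m⁻¹) * m * v := by group
  rw [e] at hg ⊢
  have hU := mul_mem hu hmc
  have hfix := mem_fixG σ |>.1 hg
  rw [map_mul, map_mul] at hfix
  obtain ⟨e1, e2, e3⟩ := bruhat_unique (theta_mem_upU σ hU) hU (theta_mem_vU σ hv) hv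
    (isMono_theta σ hm) hm hfix
  exact ⟨w, _, m, v, hm, ⟨hU, e1⟩, e2, ⟨shapeGroup_le_upU hv, e3⟩, rfl⟩

/-- Root elements: every place above the diagonal occurs in the fixed unitriangular group. -/
theorem exists_root [CharP F 2] (hσ : ∀ x, σ (σ x) = x) (hn : Even n) {a b : Fin n} (hab : a < b) :
    ∃ y ∈ upU n F ⊓ fixG σ, y.1 a b ≠ 0 := by
  classical
  have hrev : ∀ x : Fin n, Fin.rev x ≠ x := fun x e => by
    have h := congrArg Fin.val e
    rw [Fin.val_rev] at h
    obtain ⟨k, hk⟩ := hn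
    have := x.isLt
    omega
  let T : ∀ (i j : Fin n), i ≠ j → SLn n F := fun i j h => SpecialLinearGroup.transvection h 1
  have hTv : ∀ i j (h : i ≠ j), (T i j h).1 = Matrix.transvection i j 1 := fun i j h => rfl
  have hsq : ∀ i j (h : i ≠ j), (T i j h)⁻¹ = T i j h := fun i j h => by
    refine inv_eq_of_mul_eq_one_right (Subtype.ext ?_)
    show (Matrix.transvection i j (1 : F)) * Matrix.transvection i j 1 = 1
    rw [Matrix.transvection_mul_transvection_same _ _ h, CharTwo.add_self_eq_zero,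
      Matrix.transvection_zero]
  have hT : ∀ i j (h : i ≠ j), theta σ (T i j h) = T (Fin.rev j) (Fin.rev i)
      (fun e => h (Fin.rev_injective e).symm) := fun i j h => by
    refine Subtype.ext (Matrix.ext fun c d => ?_)
    rw [theta_apply, hsq, hTv, hTv, Matrix.transvection, Matrix.transvection, Matrix.add_apply,
      Matrix.add_apply, Matrix.single_apply, Matrix.single_apply, Matrix.one_apply, Matrix.one_apply,
      map_add, apply_ite σ, apply_ite σ, map_one, map_zero]
    congr 1
    · exact if_congr (by rw [Fin.rev_inj, eq_comm]) rfl rfl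
    · refine if_congr ?_ rfl rfl
      constructor
      · rintro ⟨rfl, rfl⟩; exact ⟨Fin.rev_rev c, Fin.rev_rev d⟩
      · rintro ⟨rfl, rfl⟩; exact ⟨(Fin.rev_rev i).symm, (Fin.rev_rev j).symm⟩
  have hTU : ∀ i j (h : i < j), T i j h.ne ∈ upU n F := fun i j h => by
    refine mem_upU.2 ⟨fun k => ?_, fun k l hlk => ?_⟩ <;>
      rw [hTv, Matrix.transvection, Matrix.add_apply, Matrix.single_apply]
    · rw [Matrix.one_apply_eq, if_neg (fun e : i = k ∧ j = k => h.ne (e.1.trans e.2.symm)), add_zero]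
    · rw [Matrix.one_apply_ne hlk.ne', if_neg (fun e : i = k ∧ j = l => lt_asymm h (by
        rw [e.1, e.2]; exact hlk)), add_zero]
  by_cases hb : b = Fin.rev a
  · refine ⟨T a b hab.ne, ⟨hTU a b hab, ?_⟩, ?_⟩
    · show theta σ _ = _
      rw [hT]
      subst hb
      congr 1
      exact Fin.rev_rev a
    · rw [hTv]; simp [Matrix.transvection, Matrix.single_apply, hab.ne]
  · set A := T a b hab.ne
    set B := theta σ A with hB
    have hBA : A * B = B * A := by
      rw [hB, hT]
      refine Subtype.ext ?_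
      rw [val_mul, val_mul, hTv, hTv]
      simp only [Matrix.transvection]
      simp [Matrix.mul_add, Matrix.add_mul, Matrix.single_mul_single_of_ne, (hrev b).symm, hrev a]
      abel
    refine ⟨A * B, ⟨mul_mem (hTU a b hab) (theta_mem_upU σ (hTU a b hab)), ?_⟩, ?_⟩
    · show theta σ (A * B) = A * B
      rw [map_mul, hB, theta_theta σ hσ, ← hB, ← hBA]
    · rw [hB, hT, val_mul, hTv, hTv]
      rw [Matrix.mul_transvection_apply_of_ne _ _ _ _ (fun e => hb e)]
      simp [Matrix.transvection, Matrix.single_apply, hab.ne]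

end Cfsg.Agent.Lib.PronormalOddIndex
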