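import Mathlib
import Cfsg.Prelude.Def_Classical
import Cfsg.Agent.Lib.Forms.Bridge
import Cfsg.Agent.Lib.PronormalOddIndex.Reduce
import Cfsg.Agent.Lib.PronormalOddIndex.Step
import Cfsg.Agent.Lib.PronormalOddIndex.UnitaryFixed

/-!
Overgroups of a Sylow 2-subgroup of `SU_n(q)`, `n` and `q` even, are pronormal.
-/

set_option autoImplicit false
set_option linter.unusedSectionVars false

namespace Cfsg.Agent.Lib.PronormalOddIndex

open Matrix Cfsg.Agent.Lib.SteinbergBlock Cfsg.Agent.Lib.ConjFunctor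

universe u

variable {n : ℕ} {F : Type u} [Field F] [Fintype F] {σ : F →+* F}

theorem theta_mem_torus {t : SLn n F} (ht : t ∈ torus n F) : theta σ t ∈ torus n F := by
  have h := isMono_theta σ (mem_torus.1 ht)
  rwa [show revConj (1 : Equiv.Perm (Fin n)) = 1 from Equiv.ext fun a => by
    rw [revConj_apply, Equiv.Perm.one_apply, Fin.rev_rev, Equiv.Perm.one_apply]] at h

theorem torus_pow_apply {t : SLn n F} (ht : t ∈ torus n F) (a : Fin n) :
    ∀ k : ℕ, (t ^ k).1 a a = t.1 a a ^ k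
  | 0 => by rw [pow_zero, pow_zero, val_one, Matrix.one_apply_eq]
  | k + 1 => by
    rw [pow_succ, (mem_torus.1 ht).mul_apply_right, pow_succ, ← torus_pow_apply ht a k]
    rfl

theorem torus_conj_upU {t x : SLn n F} (ht : t ∈ torus n F) (hx : x ∈ upU n F) :
    t * x * t⁻¹ ∈ upU n F := torus_normalizes ht hx

/-- The normalizer of the fixed unitriangular group among fixed elements. -/
theorem normalizer_decomp [CharP F 2] (hσ : ∀ x, σ (σ x) = x) (hn : Even n) {g : SLn n F}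
    (hg : g ∈ fixG σ) (hN : ∀ x ∈ upU n F ⊓ fixG σ, g * x * g⁻¹ ∈ upU n F ⊓ fixG σ) :
    ∃ u ∈ upU n F ⊓ fixG σ, ∃ t ∈ torus n F ⊓ fixG σ, g = u * t := by
  obtain ⟨w, u, m, v, hm, hu, hmG, hv, rfl⟩ := exists_fixed_umv σ hg
  have hNm : ∀ x ∈ upU n F ⊓ fixG σ, m * x * m⁻¹ ∈ upU n F := fun x hx => by
    have h1 := hN (v⁻¹ * x * v) (mul_mem (mul_mem (inv_mem hv) hx) hv)
    have h2 := mul_mem (mul_mem (inv_mem hu) h1) hu
    have e : u⁻¹ * (u * m * v * (v⁻¹ * x * v) * (u * m * v)⁻¹) * u = m * x * m⁻¹ := by group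
    rw [e] at h2
    exact (Subgroup.mem_inf.1 h2).1
  have hw : w = 1 := by
    have hmono : StrictMono w := fun a b hab => by
      obtain ⟨y, hy, hne⟩ := exists_root σ hσ hn hab
      by_contra hc
      rcases lt_or_eq_of_le (not_lt.1 hc) with h | h
      · exact ((hm.conj_ne y a b).2 hne) ((mem_upU.1 (hNm y hy)).2 _ _ h)
      · exact hab.ne (w.injective h).symm
    ext a
    rw [show (w : Fin n → Fin n) = id from
      (StrictMono.range_inj hmono strictMono_id).1 (by rw [Set.range_id, w.surjective.range_eq])]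
    rfl
  subst hw
  have hmT : m ∈ torus n F := mem_torus.2 hm
  refine ⟨u * (m * v * m⁻¹), ⟨mul_mem hu.1 (torus_conj_upU hmT hv.1),
    (fixG σ).mul_mem hu.2 ((fixG σ).mul_mem ((fixG σ).mul_mem hmG hv.2) ((fixG σ).inv_mem hmG))⟩, m, ⟨hmT, hmG⟩, by group⟩

/-- The fixed unitriangular group as a subgroup of the fixed group. -/
def fixU (σ : F →+* F) (n : ℕ) : Subgroup (fixG (n := n) σ) := (upU n F).subgroupOf (fixG σ)

theorem mem_fixU {g : fixG (n := n) σ} : g ∈ fixU σ n ↔ (g : SLn n F) ∈ upU n F := Iff.rfl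

theorem decomp_of_mem_normalizer [CharP F 2] (hσ : ∀ x, σ (σ x) = x) (hn : Even n)
    {g : fixG (n := n) σ}
    (hg : g ∈ Subgroup.normalizer (fixU σ n : Set (fixG (n := n) σ))) :
    ∃ u ∈ fixU σ n, ∃ t : fixG (n := n) σ, (t : SLn n F) ∈ torus n F ∧ g = u * t := by
  obtain ⟨u, hu, t, ht, e⟩ := normalizer_decomp hσ hn g.2 fun x hx =>
    ⟨(Subgroup.mem_normalizer_iff.1 hg ⟨x, hx.2⟩).1 hx.1,
      (fixG σ).mul_mem ((fixG σ).mul_mem g.2 hx.2) ((fixG σ).inv_mem g.2)⟩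
  exact ⟨⟨u, hu.2⟩, hu.1, ⟨t, ht.2⟩, ht.1, Subtype.ext e⟩

theorem exists_sylow_fixU [CharP F 2] (hσ : ∀ x, σ (σ x) = x) (hn : Even n) :
    ∃ P : Sylow 2 (fixG (n := n) σ), (P : Subgroup (fixG (n := n) σ)) = fixU σ n := by
  haveI : Fact (Nat.Prime 2) := ⟨Nat.prime_two⟩
  have hp : IsPGroup 2 (fixU σ n) :=
    (isPGroup_upU (n := n) (F := F) 2).comap_of_injective _ Subtype.val_injective
  obtain ⟨P, hP⟩ := hp.exists_le_sylow
  refine ⟨P, ?_⟩
  by_contra hne
  have hnil : Group.IsNilpotent (P : Subgroup (fixG (n := n) σ)) := P.2.isNilpotent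
  have hlt : (fixU σ n).subgroupOf (P : Subgroup (fixG (n := n) σ)) < ⊤ :=
    lt_top_iff_ne_top.2 fun h => hne (le_antisymm (Subgroup.subgroupOf_eq_top.1 h) hP)
  obtain ⟨g, hg, hgn⟩ := SetLike.exists_of_lt (Group.normalizerCondition_of_isNilpotent _ hlt)
  refine hgn ?_
  rw [Subgroup.mem_subgroupOf]
  have hgN : (g : fixG (n := n) σ) ∈ Subgroup.normalizer (fixU σ n : Set (fixG (n := n) σ)) := by
    refine Subgroup.mem_normalizer_iff.2 fun x => ⟨fun hx => ?_, fun hx => ?_⟩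
    · exact (Subgroup.mem_normalizer_iff.1 hg ⟨x, hP hx⟩).1 hx
    · have hx' : x ∈ (P : Subgroup (fixG (n := n) σ)) := by
        have := mul_mem (mul_mem (inv_mem g.2) (hP hx)) g.2
        rwa [show (g : fixG (n := n) σ)⁻¹ * ((g : fixG (n := n) σ) * x * (g : fixG (n := n) σ)⁻¹) *
          (g : fixG (n := n) σ) = x by group] at this
      exact (Subgroup.mem_normalizer_iff.1 hg ⟨x, hx'⟩).2 hx
  obtain ⟨u, hu, t, ht, e⟩ := decomp_of_mem_normalizer hσ hn hgN
  have htP : t ∈ (P : Subgroup (fixG (n := n) σ)) := by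
    have : t = u⁻¹ * (g : fixG (n := n) σ) := by rw [e]; group
    rw [this]
    exact mul_mem (inv_mem (hP hu)) g.2
  obtain ⟨k, hk⟩ := P.2 ⟨t, htP⟩
  have hk' : (t : SLn n F) ^ 2 ^ k = 1 := congrArg (fun x : (P : Subgroup (fixG (n := n) σ)) =>
    ((x : fixG (n := n) σ) : SLn n F)) hk
  have ht1 : (t : SLn n F) = 1 := by
    refine Subtype.ext (Matrix.ext fun a b => ?_)
    rcases eq_or_ne a b with rfl | hab
    · have := torus_pow_apply ht a (2 ^ k)
      rw [hk', val_one, Matrix.one_apply_eq] at this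
      rw [val_one, Matrix.one_apply_eq]
      have h0 : ((t : SLn n F).1 a a - 1) ^ 2 ^ k = 0 := by
        rw [sub_pow_char_pow, one_pow, ← this, sub_self]
      exact sub_eq_zero.1 (pow_eq_zero_iff (by positivity) |>.1 h0)
    · rw [mem_torus.1 ht a b hab, val_one, Matrix.one_apply_ne hab]
  have : (g : fixG (n := n) σ) = u := by
    rw [e, show t = 1 from Subtype.ext ht1, mul_one]
  rw [this]; exact hu

/-- Overgroups of the fixed unitriangular group are pronormal. -/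
theorem pronormal_fixed [CharP F 2] (hσ : ∀ x, σ (σ x) = x) (hn : Even n) :
    ∃ P : Sylow 2 (fixG (n := n) σ), ∀ K : Subgroup (fixG (n := n) σ),
      (P : Subgroup (fixG (n := n) σ)) ≤ K → Cfsg.IsPronormal K := by
  haveI : Fact (Nat.Prime 2) := ⟨Nat.prime_two⟩
  obtain ⟨P, hP⟩ := exists_sylow_fixU hσ hn
  refine ⟨P, fun K hK => pronormal_of_normalizer_le K P hK ?_⟩
  have hUK : fixU σ n ≤ K := hP ▸ hK
  set L : Subgroup (fixG (n := n) σ) :=
    Subgroup.closure {x | ∃ k ∈ K, ∃ p ∈ fixU σ n, x = k * p * k⁻¹} with hL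
  have hUL : fixU σ n ≤ L := fun p hp =>
    Subgroup.subset_closure ⟨1, one_mem _, p, hp, by group⟩
  have hLK : L ≤ K := (Subgroup.closure_le _).2 (by
    rintro _ ⟨k, hk, p, hp, rfl⟩
    exact mul_mem (mul_mem hk (hUK hp)) (inv_mem hk))
  have hKL : ∀ k ∈ K, ∀ l ∈ L, k * l * k⁻¹ ∈ L := by
    intro k hk l hl
    have : L ≤ L.comap (MulAut.conj k).toMonoidHom := (Subgroup.closure_le _).2 (by
      rintro _ ⟨k', hk', p, hp, rfl⟩
      exact Subgroup.subset_closure ⟨k * k', mul_mem hk hk', p, hp, by simp [mul_assoc]⟩)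
    exact this hl
  -- the fixed torus normalizes `L`
  have hTL : ∀ t : fixG (n := n) σ, (t : SLn n F) ∈ torus n F → ∀ l ∈ L, t * l * t⁻¹ ∈ L := by
    intro t ht l hl
    have : L ≤ L.comap (MulAut.conj t).toMonoidHom := (Subgroup.closure_le _).2 (by
      rintro _ ⟨k, hk, p, hp, rfl⟩
      show t * (k * p * k⁻¹) * t⁻¹ ∈ L
      obtain ⟨w, u, m, v, hm, hu, hmG, hv, e⟩ := exists_fixed_umv σ k.2
      set u' : fixG (n := n) σ := ⟨u, hu.2⟩
      set m' : fixG (n := n) σ := ⟨m, hmG⟩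
      set v' : fixG (n := n) σ := ⟨v, hv.2⟩
      have ek : k = u' * m' * v' := Subtype.ext e
      have hu'U : u' ∈ fixU σ n := hu.1
      have hv'U : v' ∈ fixU σ n := hv.1
      have hmK : m' ∈ K := by
        rw [show m' = u'⁻¹ * k * v'⁻¹ by rw [ek]; group]
        exact mul_mem (mul_mem (inv_mem (hUK hu'U)) hk) (inv_mem (hUK hv'U))
      set t₁ := m'⁻¹ * t * m'
      have ht₁ : (t₁ : SLn n F) ∈ torus n F := by
        have h := hm.inv.conj_torus ht
        rw [inv_inv] at h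
        exact h
      have h1 : t * u' * t⁻¹ ∈ L := hUL (torus_conj_upU ht hu.1)
      have h2 : m' * (t₁ * (v' * p * v'⁻¹) * t₁⁻¹) * m'⁻¹ ∈ L :=
        Subgroup.subset_closure ⟨m', hmK, _,
          torus_conj_upU ht₁ (mul_mem (mul_mem hv.1 hp) (inv_mem hv.1)), rfl⟩
      have e2 : t * (k * p * k⁻¹) * t⁻¹ =
          (t * u' * t⁻¹) * (m' * (t₁ * (v' * p * v'⁻¹) * t₁⁻¹) * m'⁻¹) * (t * u' * t⁻¹)⁻¹ := by
        rw [ek]; simp only [t₁]; group
      rw [e2]
      exact mul_mem (mul_mem h1 h2) (inv_mem h1))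
    exact this hl
  have hNL : ∀ g ∈ Subgroup.normalizer ((P : Subgroup (fixG (n := n) σ)) : Set (fixG (n := n) σ)),
      ∀ l ∈ L, g * l * g⁻¹ ∈ L := by
    intro g hg l hl
    rw [hP] at hg
    obtain ⟨u, hu, t, ht, rfl⟩ := decomp_of_mem_normalizer hσ hn hg
    rw [show u * t * l * (u * t)⁻¹ = u * (t * l * t⁻¹) * u⁻¹ by group]
    exact mul_mem (mul_mem (hUL hu) (hTL t ht l hl)) (inv_mem (hUL hu))
  intro g hg
  refine mem_normalizer_of_forall fun k hk => ?_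
  -- Frattini inside `L`
  have hPL : (P : Subgroup (fixG (n := n) σ)) ≤ L := hP.symm ▸ hUL
  have hkP : ((k • P : Sylow 2 (fixG (n := n) σ)) : Subgroup (fixG (n := n) σ)) ≤ L := by
    rintro _ ⟨p, hp, rfl⟩
    exact hKL k hk p (hPL hp)
  obtain ⟨l, hl⟩ := MulAction.exists_smul_eq L (P.subtype hPL) ((k • P).subtype hkP)
  rw [Sylow.smul_subtype hPL] at hl
  have hl' : (l : fixG (n := n) σ) • P = k • P := Sylow.subtype_injective hl
  set k₀ := (l : fixG (n := n) σ)⁻¹ * k with hk₀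
  have hk₀N : k₀ ∈ Subgroup.normalizer ((P : Subgroup (fixG (n := n) σ)) : Set (fixG (n := n) σ)) := by
    refine Sylow.smul_eq_iff_mem_normalizer.mp ?_
    rw [hk₀, mul_smul, ← hl', inv_smul_smul]
  have hk₀K : k₀ ∈ K := mul_mem (inv_mem (hLK l.2)) hk
  rw [hP] at hg hk₀N
  obtain ⟨u, hu, t, ht, rfl⟩ := decomp_of_mem_normalizer hσ hn hg
  obtain ⟨u₀, hu₀, t₀, ht₀, e₀⟩ := decomp_of_mem_normalizer hσ hn hk₀N
  have htt : t * t₀ * t⁻¹ = t₀ := by
    refine Subtype.ext ?_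
    show (t : SLn n F) * t₀ * (t : SLn n F)⁻¹ = t₀
    rw [torus_comm ht ht₀, mul_inv_cancel_right]
  have ht₀K : t₀ ∈ K := by
    rw [show t₀ = u₀⁻¹ * k₀ by rw [e₀]; group]
    exact mul_mem (inv_mem (hUK hu₀)) hk₀K
  have h1 : t * (l : fixG (n := n) σ) * t⁻¹ ∈ L := hTL t ht _ l.2
  have h2 : t * u₀ * t⁻¹ ∈ K := hUK (torus_conj_upU ht hu₀)
  have ek : k = (l : fixG (n := n) σ) * u₀ * t₀ := by
    rw [mul_assoc, ← e₀, hk₀, mul_inv_cancel_left]
  have e : u * t * k * (u * t)⁻¹ = u * ((t * (l : fixG (n := n) σ) * t⁻¹) * (t * u₀ * t⁻¹) *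
      (t * t₀ * t⁻¹)) * u⁻¹ := by
    rw [ek]; group
  rw [e, htt]
  exact mul_mem (mul_mem (hUK hu) (mul_mem (mul_mem (hLK h1) h2) ht₀K)) (inv_mem (hUK hu))

end Cfsg.Agent.Lib.PronormalOddIndex
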