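import Mathlib
import Cfsg.Prelude.Def_Classical
import Cfsg.Agent.Lib.Forms.Bridge
import Cfsg.Agent.Lib.PronormalOddIndex.UnitaryFixed

/-!
`SU_n(q)` in split coordinates, `n` and `q` even.
-/

set_option autoImplicit false
set_option linter.unusedSectionVars false

namespace Cfsg.Agent.Lib.PronormalOddIndex

open Matrix Cfsg.Agent.Lib.SteinbergBlock Cfsg.Agent.Lib

variable {n : ℕ} {F : Type} [Field F] [Fintype F] {q : ℕ}

/-- The antidiagonal matrix. -/
def revMat (n : ℕ) (F : Type) [Field F] : Matrix (Fin n) (Fin n) F :=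
  Matrix.of fun a b => if a = Fin.rev b then 1 else 0

theorem revMat_mul (A : Matrix (Fin n) (Fin n) F) (a b : Fin n) :
    (revMat n F * A) a b = A (Fin.rev a) b := by
  rw [Matrix.mul_apply, Fintype.sum_eq_single (Fin.rev a)]
  · simp [revMat]
  · intro k hk
    have : a ≠ Fin.rev k := fun e => hk (by rw [e, Fin.rev_rev])
    simp [revMat, this]

theorem mul_revMat (A : Matrix (Fin n) (Fin n) F) (a b : Fin n) :
    (A * revMat n F) a b = A a (Fin.rev b) := by
  rw [Matrix.mul_apply, Fintype.sum_eq_single (Fin.rev b)]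
  · simp [revMat]
  · intro k hk
    simp [revMat, hk]

theorem mem_SU_iff (hF : Fintype.card F = q ^ 2) (g : SLn n F) :
    g ∈ Cfsg.SU n F q ↔ g.1ᵀ * (Forms.qPowHom hF).mapMatrix g.1 = 1 := by
  classical
  set σ := Forms.qPowHom hF
  have hq : q ≠ 0 := by have := Forms.two_le_of_card_sq hF; omega
  have key : ∀ u v : Fin n → F, Cfsg.hermForm n F q (g.1 *ᵥ u) (g.1 *ᵥ v) =
      u ⬝ᵥ ((g.1ᵀ * σ.mapMatrix g.1) *ᵥ fun i => σ (v i)) := by
    intro u v
    rw [← Matrix.mulVec_mulVec, Matrix.dotProduct_mulVec, Matrix.vecMul_transpose]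
    refine Finset.sum_congr rfl fun i _ => ?_
    rw [← Forms.qPowHom_apply hF, show σ ((g.1 *ᵥ v) i) = (σ.mapMatrix g.1 *ᵥ fun j => σ (v j)) i from
      RingHom.map_mulVec σ g.1 v i]
  constructor
  · intro hg
    ext i j
    have h : Cfsg.hermForm n F q (g.1 *ᵥ Pi.single i 1) (g.1 *ᵥ Pi.single j 1) =
      Cfsg.hermForm n F q (Pi.single i 1) (Pi.single j 1) := hg _ _
    rw [key] at h
    have e : (fun k => σ ((Pi.single j 1 : Fin n → F) k)) = Pi.single j 1 := by
      funext k; rcases eq_or_ne k j with rfl | hk <;> simp [*]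
    rw [e] at h
    simp only [Cfsg.hermForm, Matrix.mulVec_single_one, single_dotProduct, one_mul, Matrix.col_apply] at h
    rw [h, Matrix.one_apply, Finset.sum_eq_single i (fun k _ hk => by simp [hk]) (by simp)]
    rcases eq_or_ne i j with rfl | hij
    · simp
    · simp [hij, hq, Pi.single_eq_of_ne hij]
  · intro hg u v
    show Cfsg.hermForm n F q (g.1 *ᵥ u) (g.1 *ᵥ v) = _
    rw [key, hg, Matrix.one_mulVec]
    exact Finset.sum_congr rfl fun i _ => by
      show u i * σ (v i) = _
      rw [Forms.qPowHom_apply]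

/-- A change to split coordinates. -/
theorem exists_split_basis [CharP F 2] (hF : Fintype.card F = q ^ 2) (hn : Even n) :
    ∃ P : Matrix (Fin n) (Fin n) F, Pᵀ * (Forms.qPowHom hF).mapMatrix P = revMat n F := by
  classical
  set σ := Forms.qPowHom hF
  have hσ : ∀ x, σ (σ x) = x := Forms.qPowHom_qPowHom hF
  obtain ⟨a, ha⟩ : ∃ a : F, a + σ a = 1 := by
    obtain ⟨c, hc⟩ : ∃ c, σ c ≠ c := by
      by_contra h
      push Not at h
      exact Forms.qPowHom_ne_id hF (RingHom.ext h)
    have hs : c + σ c ≠ 0 := fun h => hc (CharTwo.add_eq_zero.1 h).symm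
    refine ⟨c / (c + σ c), ?_⟩
    rw [map_div₀, map_add, hσ, add_comm (σ c) c, ← add_div, div_self hs]
  have hrev : ∀ x : Fin n, Fin.rev x ≠ x := fun x e => by
    have h := congrArg Fin.val e
    rw [Fin.val_rev] at h
    obtain ⟨k, hk⟩ := hn
    have := x.isLt
    omega
  let P : Matrix (Fin n) (Fin n) F := Matrix.of fun i j =>
    if i = j then (if j < Fin.rev j then 1 else a + 1)
    else if i = Fin.rev j then (if j < Fin.rev j then 1 else a) else 0
  refine ⟨P, Matrix.ext fun j k => ?_⟩
  rw [Matrix.mul_apply, show revMat n F j k = if j = Fin.rev k then 1 else 0 from rfl]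
  simp only [Matrix.transpose_apply, RingHom.mapMatrix_apply, Matrix.map_apply]
  have hP1 : ∀ j, P j j = if j < Fin.rev j then 1 else a + 1 := fun j => by simp [P]
  have hP2 : ∀ j, P (Fin.rev j) j = if j < Fin.rev j then 1 else a := fun j => by simp [P, hrev]
  have hP0 : ∀ i j, i ≠ j → i ≠ Fin.rev j → P i j = 0 := fun i j h1 h2 => by simp [P, h1, h2]
  rw [Finset.sum_eq_add j (Fin.rev j) (hrev j).symm
    (fun i _ hi => by rw [hP0 i j hi.1 hi.2, zero_mul]) (by simp) (by simp)]
  rcases eq_or_ne j k with rfl | hjk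
  · rw [if_neg (hrev j).symm, hP1, hP2]
    split_ifs
    · rw [map_one, one_mul, CharTwo.add_self_eq_zero]
    · rw [map_add, map_one]
      have h2 : (2 : F) = 0 := CharTwo.two_eq_zero
      linear_combination ha + (a * σ a + 1) * h2
  · rcases eq_or_ne j (Fin.rev k) with e | hjk'
    · rw [if_pos e]
      subst e
      rw [Fin.rev_rev, hP1, hP1]
      have e1 : P (Fin.rev k) k = if k < Fin.rev k then 1 else a := hP2 k
      have e2 : P k (Fin.rev k) = if Fin.rev k < k then 1 else a := by
        have := hP2 (Fin.rev k); rwa [Fin.rev_rev] at this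
      rw [e1, e2, Fin.rev_rev]
      rcases lt_or_gt_of_ne (hrev k) with h | h
      · simp only [h, not_lt.2 h.le, if_true, if_false, map_one, map_add]
        have h2 : (2 : F) = 0 := CharTwo.two_eq_zero
        linear_combination σ a * h2
      · simp only [h, not_lt.2 h.le, if_true, if_false, map_one, map_add]
        have h2 : (2 : F) = 0 := CharTwo.two_eq_zero
        linear_combination a * h2
    · rw [if_neg hjk']
      rw [hP0 j k hjk hjk', hP0 (Fin.rev j) k (fun e => hjk' (by rw [← e, Fin.rev_rev]))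
        (fun e => hjk (Fin.rev_injective e)), map_zero, mul_zero, mul_zero, add_zero]

/-- `SU` is the fixed group of the graph-field endomorphism. -/
theorem nonempty_SU_equiv_fixG [CharP F 2] (hF : Fintype.card F = q ^ 2) (hn : Even n) :
    Nonempty (Cfsg.SU n F q ≃* fixG (n := n) (Forms.qPowHom hF)) := by
  classical
  set σ := Forms.qPowHom hF
  have hσ : ∀ x, σ (σ x) = x := Forms.qPowHom_qPowHom hF
  obtain ⟨P, hP⟩ := exists_split_basis hF hn
  have hR : revMat n F * revMat n F = 1 := Matrix.ext fun a b => by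
    rw [revMat_mul]
    show (if Fin.rev a = Fin.rev b then (1 : F) else 0) = _
    rw [Matrix.one_apply]
    exact if_congr Fin.rev_inj rfl rfl
  have hPd : IsUnit P.det := by
    have h := congrArg Matrix.det hP
    have h1 : (revMat n F).det * (revMat n F).det = 1 := by rw [← Matrix.det_mul, hR, Matrix.det_one]
    rw [Matrix.det_mul, Matrix.det_transpose] at h
    refine isUnit_iff_ne_zero.2 fun h0 => ?_
    rw [h0, zero_mul] at h
    rw [← h, zero_mul] at h1
    exact zero_ne_one h1
  let c : SLn n F ≃* SLn n F :=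
    { toFun := fun g => ⟨P⁻¹ * g.1 * P, by
        rw [Matrix.det_mul, Matrix.det_mul, g.2, mul_one, ← Matrix.det_mul, Matrix.nonsing_inv_mul _ hPd,
          Matrix.det_one]⟩
      invFun := fun g => ⟨P * g.1 * P⁻¹, by
        rw [Matrix.det_mul, Matrix.det_mul, g.2, mul_one, ← Matrix.det_mul, Matrix.mul_nonsing_inv _ hPd,
          Matrix.det_one]⟩
      left_inv := fun g => Subtype.ext (by
        show P * (P⁻¹ * g.1 * P) * P⁻¹ = g.1
        rw [← Matrix.mul_assoc, ← Matrix.mul_assoc, Matrix.mul_nonsing_inv _ hPd, Matrix.one_mul,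
          Matrix.mul_assoc, Matrix.mul_nonsing_inv _ hPd, Matrix.mul_one])
      right_inv := fun g => Subtype.ext (by
        show P⁻¹ * (P * g.1 * P⁻¹) * P = g.1
        rw [← Matrix.mul_assoc, ← Matrix.mul_assoc, Matrix.nonsing_inv_mul _ hPd, Matrix.one_mul,
          Matrix.mul_assoc, Matrix.nonsing_inv_mul _ hPd, Matrix.mul_one])
      map_mul' := fun g h => Subtype.ext (by
        show P⁻¹ * (g.1 * h.1) * P = P⁻¹ * g.1 * P * (P⁻¹ * h.1 * P)
        simp only [Matrix.mul_assoc]
        rw [← Matrix.mul_assoc P P⁻¹, Matrix.mul_nonsing_inv _ hPd, Matrix.one_mul]) }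
  have key : ∀ g : SLn n F, g ∈ Cfsg.SU n F q ↔ c g ∈ fixG σ := by
    intro g
    have hPu : IsUnit Pᵀ.det := by rwa [Matrix.det_transpose]
    have hPs : IsUnit (σ.mapMatrix P).det := by rw [← RingHom.map_det]; exact hPd.map σ
    have hgP : g.1 * P = P * (c g).1 := by
      show g.1 * P = P * (P⁻¹ * g.1 * P)
      rw [← Matrix.mul_assoc, ← Matrix.mul_assoc, Matrix.mul_nonsing_inv _ hPd, Matrix.one_mul]
    have h1 : (c g).1ᵀ * revMat n F * σ.mapMatrix (c g).1 =
        Pᵀ * (g.1ᵀ * σ.mapMatrix g.1) * σ.mapMatrix P := by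
      rw [← hP, show (c g).1ᵀ * (Pᵀ * σ.mapMatrix P) * σ.mapMatrix (c g).1 =
        (P * (c g).1)ᵀ * σ.mapMatrix (P * (c g).1) by
          rw [Matrix.transpose_mul, map_mul]; simp only [Matrix.mul_assoc], ← hgP,
        Matrix.transpose_mul, map_mul]
      simp only [Matrix.mul_assoc]
    have h2 : g ∈ Cfsg.SU n F q ↔ (c g).1ᵀ * revMat n F * σ.mapMatrix (c g).1 = revMat n F := by
      rw [mem_SU_iff hF, h1]
      constructor
      · intro h; rw [h, Matrix.mul_one, hP]
      · intro h
        rw [← hP] at h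
        have h' := congrArg (fun A => (Pᵀ)⁻¹ * A * (σ.mapMatrix P)⁻¹) h
        simp only [← Matrix.mul_assoc, Matrix.nonsing_inv_mul _ hPu, Matrix.one_mul] at h'
        simp only [Matrix.mul_assoc, Matrix.mul_nonsing_inv _ hPs, Matrix.mul_one] at h'
        exact h'.trans (Matrix.mul_nonsing_inv _ hPs)
    rw [h2, mem_fixG]
    generalize c g = h
    have hinv : (h⁻¹).1ᵀ * h.1ᵀ = 1 := by
      rw [← Matrix.transpose_mul, ← val_mul, mul_inv_cancel, val_one, Matrix.transpose_one]
    have hinv' : h.1ᵀ * (h⁻¹).1ᵀ = 1 := by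
      rw [← Matrix.transpose_mul, ← val_mul, inv_mul_cancel, val_one, Matrix.transpose_one]
    have h3 : h.1ᵀ * revMat n F * σ.mapMatrix h.1 = revMat n F ↔
        revMat n F * σ.mapMatrix h.1 = (h⁻¹).1ᵀ * revMat n F := by
      rw [Matrix.mul_assoc]
      constructor
      · intro e
        have := congrArg ((h⁻¹).1ᵀ * ·) e
        simp only [← Matrix.mul_assoc, hinv, Matrix.one_mul] at this
        exact this
      · intro e
        rw [e, ← Matrix.mul_assoc, hinv', Matrix.one_mul]
    rw [h3]
    constructor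
    · intro e
      refine Subtype.ext (Matrix.ext fun a b => ?_)
      have := congrFun (congrFun e (Fin.rev a)) b
      rw [revMat_mul, mul_revMat, Fin.rev_rev, Matrix.transpose_apply, RingHom.mapMatrix_apply,
        Matrix.map_apply] at this
      rw [theta_apply, ← this, hσ]
    · intro e
      refine Matrix.ext fun a b => ?_
      rw [revMat_mul, mul_revMat, Matrix.transpose_apply, RingHom.mapMatrix_apply, Matrix.map_apply]
      have := congrArg (fun x : SLn n F => σ (x.1 (Fin.rev a) b)) e
      simp only [theta_apply, hσ, Fin.rev_rev] at this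
      exact this.symm
  exact ⟨(MulEquiv.subgroupMap c (Cfsg.SU n F q)).trans (MulEquiv.subgroupCongr (by
    ext x
    rw [Subgroup.mem_map]
    exact ⟨fun ⟨g, hg, e⟩ => e ▸ (key g).1 hg, fun hx =>
      ⟨c.symm x, (key _).2 (by rwa [c.apply_symm_apply]), c.apply_symm_apply x⟩⟩))⟩

end Cfsg.Agent.Lib.PronormalOddIndex
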